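import Groth.Agent.KoszPn17.Cone
import Groth.Agent.SerreDual.Mul
import Groth.Agent.ProjLib.ProjSpace
import Groth.Agent.DQCoh.Bound

/-!
# The twisted Koszul complex on projective space
-/

set_option autoImplicit false
set_option backward.isDefEq.respectTransparency false
set_option linter.style.haveILetI false

universe u

open CategoryTheory CategoryTheory.Limits AlgebraicGeometry TopologicalSpace Opposite
open Groth.Agent.Coherent Groth.Agent.SerreDual

namespace Groth.Agent.KoszPn17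

section Mul

variable {R A : Type u} [CommRing R] [CommRing A] [Algebra R A] {𝒜 : ℕ → Submodule R A}
  [GradedAlgebra 𝒜] {d e : ℤ} {m : ℕ}

theorem div_mem_twistAt (a : 𝒜 m) (h : d + m = e) (x : ProjectiveSpectrum 𝒜) (hx : a.1 ∉ x.asHomogeneousIdeal)
    {q : Twist.Loc 𝒜 x} (hq : q ∈ Twist.twistAt 𝒜 e x) :
    Localization.mk (1 : A) (⟨a.1, hx⟩ : x.asHomogeneousIdeal.toIdeal.primeCompl) * q ∈ Twist.twistAt 𝒜 d x := by
  induction hq using Submodule.span_induction with
  | mem q hq =>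
    obtain ⟨i, j, b, s, hs, hdeg, rfl⟩ := hq
    refine Submodule.subset_span ⟨i, m + j, b, ⟨a.1 * s.1, SetLike.mul_mem_graded a.2 s.2⟩,
      fun h' => (x.isPrime.mem_or_mem h').elim hx hs, by push_cast; omega, ?_⟩
    rw [Localization.mk_mul, one_mul]
    rfl
  | zero => rw [mul_zero]; exact zero_mem _
  | add q r _ _ hq hr => rw [mul_add]; exact add_mem hq hr
  | smul c q _ hq =>
    rw [Algebra.smul_def, mul_left_comm, ← Algebra.smul_def]
    exact Submodule.smul_mem _ _ hq

/-- Multiplication by a homogeneous element is bijective on sections over the locus where it is invertible. -/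
theorem bijective_mulHom_app (a : 𝒜 m) (h : d + m = e) (U : (Proj 𝒜).Opens) (hU : U ≤ Proj.basicOpen 𝒜 a.1) :
    Function.Bijective ((mulHom a h).app U) := by
  have hnin : ∀ x : (U : Opens (ProjectiveSpectrum.top 𝒜)), a.1 ∉ x.1.asHomogeneousIdeal := fun x => hU x.2
  have hinv : ∀ x : (U : Opens (ProjectiveSpectrum.top 𝒜)),
      Localization.mk (1 : A) (⟨a.1, hnin x⟩ : x.1.asHomogeneousIdeal.toIdeal.primeCompl) *
        Localization.mk a.1 (1 : x.1.asHomogeneousIdeal.toIdeal.primeCompl) = 1 := fun x => by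
    rw [Localization.mk_mul, one_mul, mul_one]
    exact Localization.mk_self (⟨a.1, hnin x⟩ : x.1.asHomogeneousIdeal.toIdeal.primeCompl)
  constructor
  · intro s t hst
    refine sectN_ext (d := d) fun x => ?_
    have h1 := congrArg (fun w => ((show Twist.sectN (𝒜 := 𝒜) e (op U) from w).1 x).1) hst
    simp only [mulHom_app_val] at h1
    have h2 := congrArg (Localization.mk (1 : A) (⟨a.1, hnin x⟩ : x.1.asHomogeneousIdeal.toIdeal.primeCompl) * ·) h1
    simp only [← mul_assoc, hinv, one_mul] at h2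
    exact h2
  · intro t
    let t' : Twist.sectN (𝒜 := 𝒜) e (op U) := t
    refine ⟨(show Γ(Twist.twist 𝒜 d, U) from
      (⟨fun x => ⟨_, div_mem_twistAt a h x.1 (hnin x) (t'.1 x).2⟩, fun x => ?_⟩ : Twist.sectN (𝒜 := 𝒜) d (op U))), ?_⟩
    · obtain ⟨V, hxV, iV, i, j, b, s, nin, hdeg, hw⟩ := t'.2 x
      refine ⟨V, hxV, iV, i, m + j, b, ⟨a.1 * s.1, SetLike.mul_mem_graded a.2 s.2⟩,
        fun y h' => (y.1.isPrime.mem_or_mem h').elim (hnin (iV y)) (nin y), ?_, fun y => ?_⟩
      · rcases hdeg with hd | hd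
        · exact Or.inl (by push_cast; omega)
        · exact Or.inr hd
      · refine (congrArg (Localization.mk (1 : A) (⟨a.1, hnin (iV y)⟩ : y.1.asHomogeneousIdeal.toIdeal.primeCompl) * ·) (hw y)).trans ?_
        rw [Localization.mk_mul, one_mul]
        rfl
    · refine sectN_ext (d := e) fun x => ?_
      refine (mulHom_app_val a h U _ x).trans ?_
      show Localization.mk a.1 1 * (Localization.mk (1 : A) (⟨a.1, hnin x⟩ : x.1.asHomogeneousIdeal.toIdeal.primeCompl) * (t'.1 x).1) = _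
      rw [← mul_assoc, mul_comm (Localization.mk a.1 1), hinv, one_mul]

theorem isIso_restrict_of_bijective {X : Scheme.{u}} {M N : X.Modules} (φ : M ⟶ N) (U : X.Opens)
    (h : ∀ V ≤ U, Function.Bijective (φ.app V)) :
    IsIso ((Scheme.Modules.restrictFunctor U.ι).map φ) := by
  rw [Scheme.Modules.Hom.isIso_iff_isIso_app]
  intro V
  rw [ConcreteCategory.isIso_iff_bijective]
  exact h _ (by
    rintro _ ⟨y, -, rfl⟩
    exact y.2)

theorem isIso_restrict_mulHom (a : 𝒜 m) (h : d + m = e) :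
    IsIso ((Scheme.Modules.restrictFunctor (Proj.basicOpen 𝒜 a.1).ι).map (mulHom a h)) :=
  isIso_restrict_of_bijective (mulHom a h) (Proj.basicOpen 𝒜 a.1) (bijective_mulHom_app a h)

theorem mulHom_comm {d e e' f : ℤ} {m m' : ℕ} (a : 𝒜 m) (b : 𝒜 m') (h₁ : d + m = e) (h₂ : e + m' = f)
    (h₃ : d + m' = e') (h₄ : e' + m = f) : mulHom a h₁ ≫ mulHom b h₂ = mulHom b h₃ ≫ mulHom a h₄ :=
  Scheme.Modules.hom_ext _ _ fun U => ConcreteCategory.hom_ext _ _ fun s => sectN_ext fun y => by
    show Localization.mk b.1 1 * (Localization.mk a.1 1 * _) = Localization.mk a.1 1 * (Localization.mk b.1 1 * _)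
    exact mul_left_comm _ _ _

end Mul

/-- Iterated cones of operators, each invertible on a member of a cover, are exact. -/
theorem exists_exact_shift {X : Scheme.{u}} (n : ℕ) (T : ℤ → X.Modules) (μ : Fin (n + 1) → ∀ b, T b ⟶ T (b + 1))
    (hμ : ∀ i j b, μ i b ≫ μ j (b + 1) = μ j b ≫ μ i (b + 1)) (U : Fin (n + 1) → X.Opens)
    (hU : ∀ y : X, ∃ j, y ∈ U j) (hiso : ∀ j b, IsIso ((Scheme.Modules.restrictFunctor (U j).ι).map (μ j b)))
    (a : ℤ) :
    ∃ C : CochainComplex X.Modules ℤ, (∀ i : ℤ, C.ExactAt i) ∧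
      (∀ i : ℕ, i ≤ n + 1 → Nonempty (C.X (i : ℤ) ≅ ∐ fun _ : Fin (Nat.choose (n + 1) i) => T (a + i))) ∧
      (∀ i : ℤ, i < 0 ∨ (n : ℤ) + 1 < i → IsZero (C.X i)) := by
  let S := (Stage.base T μ hμ).iter (List.finRange (n + 1))
  have hshape : IsKoszulShape T (n + 1) S.K := by
    simpa using isKoszulShape_iter T μ hμ (List.finRange (n + 1))
  refine hshape.exists_shift a fun k => ?_
  rw [HomologicalComplex.exactAt_iff_isZero_homology]
  refine DQCoh.isZero_of_restrict_cover _ (fun j : ULift.{u} (Fin (n + 1)) => U j.down) (fun y => ?_) fun j => ?_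
  · obtain ⟨j, hj⟩ := hU y
    exact ⟨⟨j⟩, hj⟩
  · have h0 := isZero_img_iter (Scheme.Modules.restrictFunctor (U j.down).ι) T μ hμ j.down (hiso j.down)
      (List.finRange (n + 1)) (List.mem_finRange _) a
    exact ((HomologicalComplex.exactAt_iff_isZero_homology _ _).1 (exactAt_img _ _ h0 k)).of_iso
      (((S.K a).sc k).mapHomologyIso (Scheme.Modules.restrictFunctor (U j.down).ι)).symm


variable (n : ℕ) (A : Type u) [CommRing A]

/-- The twisted Koszul complex. -/
theorem exists_koszul (a : ℤ) :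
    ∃ C : CochainComplex (CohB1.ProjSpace n A).Modules ℤ, (∀ i : ℤ, C.ExactAt i) ∧
      (∀ i : ℕ, i ≤ n + 1 → Nonempty (C.X (i : ℤ) ≅ ∐ fun _ : Fin (Nat.choose (n + 1) i) => Twist.twistProjSpace n A (a + i))) ∧
      (∀ i : ℤ, i < 0 ∨ (n : ℤ) + 1 < i → IsZero (C.X i)) := by
  let x : Fin (n + 1) → CohB1.polyGrading n A 1 := fun j => ⟨MvPolynomial.X j, ProjLib.X_mem_polyGrading n A j⟩
  refine exists_exact_shift n (fun b => Twist.twist (CohB1.polyGrading n A) b) (fun j b => mulHom (x j) (by simp))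
    (fun i j b => mulHom_comm (x i) (x j) _ _ _ _)
    (fun j => Proj.basicOpen (CohB1.polyGrading n A) (x j).1) (fun y => ?_)
    (fun j b => isIso_restrict_mulHom (x j) _) a
  exact Opens.mem_iSup.1 ((ProjLib.iSup_basicOpen_X n A).symm ▸ Opens.mem_top y :
    y ∈ ⨆ j, Proj.basicOpen (CohB1.polyGrading n A) (MvPolynomial.X j))

end Groth.Agent.KoszPn17
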