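import Groth.Agent.KoszPn17.Orth
import Groth.Agent.KoszPn17.ProjSpace
import Groth.Agent.Desc19b.ResProp
import Groth.Agent.DQCoh.ResPropD17
import Groth.Agent.Dual22Lib.LocFreeExt
import Groth.Agent.Dual22Lib.PerfGen
import Groth.Agent.DCat.LocLift
import Groth.Agent.EGA43.FPKernel
import Groth.Agent.Props12.FinLocFree
import Groth.Agent.DQCoh.BettiRank
import Groth.Agent.Coherent.CohBC.HomSheaf

/-!
# Twists generate the derived category of projective space
-/

set_option autoImplicit false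
set_option backward.isDefEq.respectTransparency false
set_option backward.isDefEq.respectTransparency.types false
set_option linter.style.haveILetI false

universe u

open CategoryTheory CategoryTheory.Limits CategoryTheory.Pretriangulated DerivedCategory AlgebraicGeometry TopologicalSpace
open Groth.Agent Groth.Agent.Coherent Groth.Agent.DCat

namespace Groth.Agent.KoszPn17

attribute [local instance] HasDerivedCategory.standard
attribute [-instance] Int.instConditionallyCompleteLinearOrder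

variable {X : Scheme.{u}}

theorem isFinLocFree_of_retract {Z : Scheme.{u}} {M N : Z.Modules} [Coh.IsQCoh M] (hN : FlatMod.IsFinLocFree N)
    (s : M ⟶ N) (r : N ⟶ M) (h : s ≫ r = 𝟙 M) : FlatMod.IsFinLocFree M := by
  have key : ∀ x : Z, ∃ W : Z.Opens, IsAffineOpen W ∧ x ∈ W ∧
      Module.Finite Γ(Z, W) Γ(M, W) ∧ Module.Projective Γ(Z, W) Γ(M, W) := by
    intro x
    obtain ⟨U, n, hxU, ⟨e⟩⟩ := hN x
    obtain ⟨W, hW, hxW, hWU⟩ := Opens.isBasis_iff_nbhd.mp Z.isBasis_affineOpens hxU
    obtain ⟨b⟩ := Props12.exists_basis_sections e hWU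
    haveI : Module.Free Γ(Z, W) Γ(N, W) := .of_basis b
    haveI : Module.Finite Γ(Z, W) Γ(N, W) := Module.Finite.of_basis b
    have hrs : (Coherent.appLin r W).comp (Coherent.appLin s W) = LinearMap.id :=
      LinearMap.ext fun m => congr(($h).app W m)
    exact ⟨W, hW, hxW, Module.Finite.of_surjective (Coherent.appLin r W) fun m => ⟨_, LinearMap.congr_fun hrs m⟩,
      Module.Projective.of_split (Coherent.appLin s W) (Coherent.appLin r W) hrs⟩
  choose W hW hxW hfin hproj using key
  have hfp : CohB1.IsFP M := EGA43.FPKernel.isFP_of_forall_exists_affine M fun x =>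
    ⟨W x, hW x, hxW x, by haveI := hfin x; haveI := hproj x; exact Module.finitePresentation_of_projective _ _⟩
  refine Props12.isFinLocFree_of_isFP_of_free_stalks M hfp fun x => ?_
  haveI := hfin x
  haveI := hproj x
  haveI : Module.Flat (Z.presheaf.stalk x) (M.presheaf.stalk x) :=
    Props12.flat_stalk_of_flat_sections M (hW x) (hxW x)
  haveI : Module.Finite (Z.presheaf.stalk x) (M.presheaf.stalk x) :=
    haveI := hfp
    Props12.finite_stalk_of_isFT M (inferInstanceAs (SheafOfModules.IsFiniteType.{u} (R := Z.ringCatSheaf) M)) x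
  exact Module.free_of_flat_of_isLocalRing

theorem isFinLocFree_kernel {M N : X.Modules} (f : M ⟶ N) [Epi f] (hM : FlatMod.IsFinLocFree M)
    (hN : FlatMod.IsFinLocFree N) : FlatMod.IsFinLocFree (kernel f) := by
  refine DQCoh.isFinLocFree_of_local _ fun x => ?_
  obtain ⟨V, hxV, ψ, hψ⟩ := DCat.LocLift.exists_liftAt hN (𝟙 N) f x
  refine ⟨V.toScheme, V.ι, inferInstance, by simpa using hxV, ?_⟩
  let F := Scheme.Modules.restrictFunctor V.ι
  have hψ' : ψ ≫ F.map f = 𝟙 _ := hψ.trans (F.map_id N)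
  haveI := PullPerf.preservesFiniteLimits_restrict V.ι
  haveI : Coh.IsQCoh M := PullPerf.isQCoh_of_finLocFree hM
  haveI : Coh.IsQCoh N := PullPerf.isQCoh_of_finLocFree hN
  have hM' := PerfLocal.strictlyPerfect_restrict V.ι (E := (HomologicalComplex.single X.Modules (ComplexShape.up ℤ) 0).obj M)
    ⟨⟨0, 0, fun i hi => HomologicalComplex.isZero_single_obj_X (ComplexShape.up ℤ) 0 M i (by omega)⟩, fun i => by
      by_cases h : i = 0
      · subst h; exact PerfTensor.isFinLocFree_of_iso (HomologicalComplex.singleObjXSelf (ComplexShape.up ℤ) 0 M).symm hM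
      · exact PerfTensor.isFinLocFree_of_isZero (HomologicalComplex.isZero_single_obj_X (ComplexShape.up ℤ) 0 M i h)⟩
  have hFM : FlatMod.IsFinLocFree (F.obj M) := PerfTensor.isFinLocFree_of_iso
    (F.mapIso (HomologicalComplex.singleObjXSelf (ComplexShape.up ℤ) 0 M)) (hM'.2 0)
  haveI : Coh.IsQCoh (F.obj M) := PullPerf.isQCoh_of_finLocFree hFM
  have hN' := PerfLocal.strictlyPerfect_restrict V.ι (E := (HomologicalComplex.single X.Modules (ComplexShape.up ℤ) 0).obj N)
    ⟨⟨0, 0, fun i hi => HomologicalComplex.isZero_single_obj_X (ComplexShape.up ℤ) 0 N i (by omega)⟩, fun i => by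
      by_cases h : i = 0
      · subst h; exact PerfTensor.isFinLocFree_of_iso (HomologicalComplex.singleObjXSelf (ComplexShape.up ℤ) 0 N).symm hN
      · exact PerfTensor.isFinLocFree_of_isZero (HomologicalComplex.isZero_single_obj_X (ComplexShape.up ℤ) 0 N i h)⟩
  haveI : Coh.IsQCoh (F.obj N) := PullPerf.isQCoh_of_finLocFree (PerfTensor.isFinLocFree_of_iso
    (F.mapIso (HomologicalComplex.singleObjXSelf (ComplexShape.up ℤ) 0 N)) (hN'.2 0))
  haveI : Coh.IsQCoh (kernel (F.map f)) := isQCoh_kernel _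
  refine PerfTensor.isFinLocFree_of_iso (PreservesKernel.iso F f).symm
    (isFinLocFree_of_retract hFM (kernel.ι (F.map f))
      (kernel.lift _ (𝟙 _ - F.map f ≫ ψ) (by simp [hψ']; erw [Category.comp_id]; exact sub_self _)) ?_)
  rw [← cancel_mono (kernel.ι (F.map f))]
  simp

theorem factor_of_O {C : Type (u + 1)} [Category.{u} C] [Abelian C] [HasDerivedCategory.{u + 1} C] {K : DerivedCategory C}
    {T : Triangle (DerivedCategory C)} (hT : T ∈ distTriang _) (h₂ : O K T.obj₂) (k : ℤ) (ψ : T.obj₃⟦k⟧ ⟶ K) :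
    ∃ χ, ψ = (shiftFunctor _ k).map T.mor₃ ≫ χ := by
  let e := (shiftFunctorCompIsoId (DerivedCategory C) (-k) k (by omega)).app K
  obtain ⟨ψ₀, hψ₀⟩ := (shiftFunctor (DerivedCategory C) k).map_surjective (ψ ≫ e.inv)
  obtain ⟨g, rfl⟩ := Triangle.yoneda_exact₃ _ hT ψ₀ ((shiftFunctor (DerivedCategory C) k).map_injective (by
    rw [Functor.map_zero, ← cancel_mono e.hom, zero_comp]
    exact h₂ k _))
  exact ⟨(shiftFunctor _ k).map g ≫ e.hom, by rw [← Functor.map_comp_assoc, hψ₀, Category.assoc, e.inv_hom_id]; exact (Category.comp_id ψ).symm⟩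

theorem isQCohD_inD (G : X.Modules) [Coh.IsQCoh G] : DCoh.IsQCohD (DCoh.inD X G) := fun k => by
  by_cases hk : k = 0
  · subst hk
    exact Coherent.isQCoh_of_iso ((DerivedCategory.singleFunctorCompHomologyFunctorIso X.Modules 0).app G).symm
      (h := ‹Coh.IsQCoh G›)
  · refine Coherent.isQCoh_of_isZero ?_
    rcases lt_or_gt_of_ne hk with hk | hk
    · exact DerivedCategory.isZero_of_isGE _ 0 k hk
    · exact DerivedCategory.isZero_of_isLE _ 0 k hk

/-- If `C` contains enough sources of epimorphisms onto vector bundles and is orthogonal to `K`, then `K = 0`. -/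
theorem isZero_of_orth [CompactSpace X] [QuasiSeparatedSpace X] (hX : PerfAux.HasResolutionProperty X)
    (K : DCoh.D X) (hK : DCoh.IsQCohD K)
    (hepi : ∀ V : X.Modules, FlatMod.IsFinLocFree V → ∃ (P : X.Modules) (π : P ⟶ V),
      FlatMod.IsFinLocFree P ∧ Epi π ∧ Orth K P) : IsZero K := by
  obtain ⟨N₀, hN⟩ := Dual22Lib.LocFreeExt.bd X
  let N : ℕ := N₀.toNat
  have key : ∀ V : X.Modules, FlatMod.IsFinLocFree V → Orth K V := by
    intro V hV
    have step : ∀ n : ℕ, ∃ (W : X.Modules) (e : (singleFunctor X.Modules 0).obj V ⟶ ((singleFunctor X.Modules 0).obj W)⟦(n : ℤ)⟧),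
        FlatMod.IsFinLocFree W ∧ ∀ (m : ℤ) (φ : ((singleFunctor X.Modules 0).obj V)⟦m⟧ ⟶ K),
          ∃ ψ, φ = (shiftFunctor _ m).map e ≫ ψ := by
      intro n
      induction n with
      | zero =>
        refine ⟨V, ((shiftFunctorZero (DerivedCategory X.Modules) ℤ).app _).inv, hV, fun m φ => ⟨(shiftFunctor _ m).map ((shiftFunctorZero (DerivedCategory X.Modules) ℤ).app _).hom ≫ φ, ?_⟩⟩
        rw [← Functor.map_comp_assoc]
        erw [Iso.inv_hom_id_app, CategoryTheory.Functor.map_id, Category.id_comp]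
      | succ n ih =>
        obtain ⟨W, e, hW, hfac⟩ := ih
        obtain ⟨P, π, hP, hπ, hoP⟩ := hepi W hW
        have hS : (ShortComplex.mk (kernel.ι π) π (kernel.condition π)).ShortExact :=
          { exact := ShortComplex.exact_kernel π
            mono_f := inferInstanceAs (Mono (kernel.ι π))
            epi_g := hπ }
        let δ := hS.singleδ
        refine ⟨kernel π, e ≫ (shiftFunctor _ (n : ℤ)).map δ ≫
          (shiftFunctorAdd' _ (1 : ℤ) (n : ℤ) ((n + 1 : ℕ) : ℤ) (by push_cast; ring)).inv.app _,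
          isFinLocFree_kernel π hP hW, fun m φ => ?_⟩
        obtain ⟨ψ, rfl⟩ := hfac m φ
        let A := shiftFunctorAdd' (DerivedCategory X.Modules) (n : ℤ) m ((n : ℤ) + m) rfl
        let b := (shiftFunctorAdd' (DerivedCategory X.Modules) (1 : ℤ) (n : ℤ) ((n + 1 : ℕ) : ℤ) (by push_cast; ring)).app ((singleFunctor X.Modules 0).obj (kernel π))
        obtain ⟨χ, hχ⟩ : ∃ χ, (shiftFunctor (DerivedCategory X.Modules) m).map ((shiftFunctor _ (n : ℤ)).map δ) ≫ χ = ψ := by
          obtain ⟨χ', hχ'⟩ := factor_of_O hS.singleTriangle_distinguished hoP ((n : ℤ) + m) (A.hom.app _ ≫ ψ)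
          refine ⟨A.inv.app _ ≫ χ', ?_⟩
          have hn := NatIso.naturality_1 A δ
          simp only [Functor.comp_map] at hn
          rw [← hn, Category.assoc, Category.assoc, Iso.hom_inv_id_app_assoc,
            show (shiftFunctor _ ((n : ℤ) + m)).map δ ≫ χ' = _ from hχ'.symm]
          erw [Iso.inv_hom_id_app_assoc]
        refine ⟨(shiftFunctor _ m).map b.hom ≫ χ, ?_⟩
        simp only [Functor.map_comp, Category.assoc]
        rw [← hχ]
        simp only [Functor.map_comp, Category.assoc]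
        refine congrArg (_ ≫ ·) (congrArg (_ ≫ ·) ?_)
        simp only [b, Iso.app_hom]
        erw [← Functor.map_comp_assoc, Iso.inv_hom_id_app, CategoryTheory.Functor.map_id, Category.id_comp]
    obtain ⟨W, e, hW, hfac⟩ := step N
    have he : e = 0 := hN V hV _ (fun i => ?_) ?_ e
    · intro m φ
      obtain ⟨ψ, rfl⟩ := hfac m φ
      rw [he, Functor.map_zero, zero_comp]
    · exact isQCoh_of_iso (((homologyFunctor X.Modules 0).shiftIso (N : ℤ) i (N + i) rfl).app _).symm
        (h := haveI := PullPerf.isQCoh_of_finLocFree hW; isQCohD_inD W _)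
    · haveI : (((singleFunctor X.Modules 0).obj W)⟦(N : ℤ)⟧).IsLE (-(N : ℤ)) :=
        TStructure.t.isLE_shift _ 0 (N : ℤ) (-(N : ℤ)) (by omega)
      exact TStructure.t.isLE_of_le _ (-(N : ℤ)) _ (by omega)
  obtain ⟨G, hG, hgen⟩ : ∃ P : DCoh.D X, DCoh.IsPerfect P ∧ ∀ E : DCoh.D X, DCoh.IsQCohD E →
      (∀ (n : ℤ) (φ : P⟦n⟧ ⟶ E), φ = 0) → IsZero E := by
    haveI : IsEmpty ((⊥ : X.Opens) : Scheme.{u}) := ⟨fun x => x.2⟩
    obtain ⟨P, hP, -, hd⟩ := Dual22Lib.PerfGen.gen (X := X) ⊥ (by simp)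
    refine ⟨P, hP, fun E hE => hd E hE ?_⟩
    exact (Dual22Lib.AdjGeom.killed_iff _ E).2 fun i x hx => by
      rw [Scheme.Opens.opensRange_ι] at hx
      exact hx.elim
  obtain ⟨E, ⟨⟨a, b, hab⟩, hE⟩, ⟨eG⟩⟩ := DQCoh.ResPropD17.exists_strictlyPerfect hX hG
  refine hgen K hK (O.of_iso (O.of_terms (b - a + 1).toNat E b (fun i hi => hab i ?_) fun i _ _ => key _ (hE i)) eG)
  rcases hi with hi | hi <;> [left; right] <;> omega

end Groth.Agent.KoszPn17
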