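import Mathlib.Algebra.Homology.HomotopyCategory.Triangulated
import Mathlib.Algebra.Homology.HomotopyCategory.ShiftSequence
import Mathlib.CategoryTheory.Abelian.Basic
import Mathlib.CategoryTheory.Limits.Shapes.Biproducts
import Mathlib.Data.Nat.Choose.Basic

/-!
# Iterated cones of commuting operators on a graded family of objects
-/

set_option autoImplicit false
set_option backward.isDefEq.respectTransparency false
set_option linter.style.haveILetI false

universe v u v' u'

open CategoryTheory CategoryTheory.Limits CategoryTheory.Pretriangulated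

namespace Groth.Agent.KoszPn17

variable {C : Type u} [Category.{v} C] [Abelian C] [HasFiniteCoproducts C]

/-- A graded family of complexes with commuting operators. -/
structure Stage (C : Type u) [Category.{v} C] [Abelian C] (J : Type) where
  /-- the complexes -/
  K : ℤ → CochainComplex C ℤ
  /-- the operators -/
  M : J → ∀ a, K a ⟶ K (a + 1)
  comm : ∀ i j a, M i a ≫ M j (a + 1) = M j a ≫ M i (a + 1)

variable {J : Type}

/-- The starting stage: the family placed in degree `0`. -/
noncomputable def Stage.base (T : ℤ → C) (μ : J → ∀ a, T a ⟶ T (a + 1))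
    (hμ : ∀ i j a, μ i a ≫ μ j (a + 1) = μ j a ≫ μ i (a + 1)) : Stage C J where
  K a := (HomologicalComplex.single C (ComplexShape.up ℤ) 0).obj (T a)
  M j a := (HomologicalComplex.single C (ComplexShape.up ℤ) 0).map (μ j a)
  comm i j a := by rw [← Functor.map_comp, hμ, Functor.map_comp]

/-- Taking the cone of one operator. -/
noncomputable def Stage.step (S : Stage C J) (s : J) : Stage C J where
  K a := CochainComplex.mappingCone (S.M s a)
  M j a := CochainComplex.mappingCone.map (S.M s a) (S.M s (a + 1)) (S.M j a) (S.M j (a + 1)) (S.comm s j a)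
  comm i j a := by
    rw [← CochainComplex.mappingCone.map_comp, ← CochainComplex.mappingCone.map_comp]
    congr 1
    · exact S.comm i j a
    · exact S.comm i j (a + 1)

/-- Iterated cones. -/
noncomputable def Stage.iter (S : Stage C J) : List J → Stage C J
  | [] => S
  | s :: l => (S.iter l).step s

section Terms

/-- A coproduct indexed by `Fin (p + q)` as a biproduct of two. -/
theorem nonempty_sigma_add (X : C) (p q : ℕ) :
    Nonempty (((∐ fun _ : Fin p => X) ⊞ ∐ fun _ : Fin q => X) ≅ ∐ fun _ : Fin (p + q) => X) := by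
  refine ⟨{
    hom := biprod.desc (Sigma.desc fun i => Sigma.ι (fun _ : Fin (p + q) => X) (Fin.castAdd q i))
      (Sigma.desc fun i => Sigma.ι (fun _ : Fin (p + q) => X) (Fin.natAdd p i))
    inv := Sigma.desc (Fin.addCases (fun i => Sigma.ι (fun _ : Fin p => X) i ≫ biprod.inl)
      (fun i => Sigma.ι (fun _ : Fin q => X) i ≫ biprod.inr))
    hom_inv_id := by
      refine biprod.hom_ext' _ _ (Sigma.hom_ext _ _ fun i => ?_) (Sigma.hom_ext _ _ fun i => ?_) <;> simp
    inv_hom_id := Sigma.hom_ext _ _ fun i => by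
      induction i using Fin.addCases <;> simp }⟩

/-- The terms in the pattern of a Koszul complex of length `m`. -/
def IsKoszulShape (T : ℤ → C) (m : ℕ) (K : ℤ → CochainComplex C ℤ) : Prop :=
  (∀ (a : ℤ) (k : ℕ), Nonempty ((K a).X (-(k : ℤ)) ≅ ∐ fun _ : Fin (m.choose k) => T (a + m - k))) ∧
    ∀ (a i : ℤ), 0 < i → IsZero ((K a).X i)

theorem isKoszulShape_base (T : ℤ → C) (μ : J → ∀ a, T a ⟶ T (a + 1))
    (hμ : ∀ i j a, μ i a ≫ μ j (a + 1) = μ j a ≫ μ i (a + 1)) :
    IsKoszulShape T 0 (Stage.base T μ hμ).K := by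
  refine ⟨fun a k => ?_, fun a i hi => HomologicalComplex.isZero_single_obj_X _ _ _ _ (by omega)⟩
  cases k with
  | zero =>
    refine ⟨HomologicalComplex.singleObjXSelf (ComplexShape.up ℤ) 0 (T a) ≪≫ (eqToIso (by simp) : T a ≅ T (a + (0 : ℕ) - (0 : ℕ))) ≪≫ ?_⟩
    exact { hom := Sigma.ι (fun _ : Fin 1 => T (a + (0 : ℕ) - (0 : ℕ))) 0
            inv := Sigma.desc fun _ : Fin 1 => 𝟙 (T (a + (0 : ℕ) - (0 : ℕ)))
            hom_inv_id := Sigma.ι_desc _ _
            inv_hom_id := Sigma.hom_ext _ _ fun (i : Fin 1) => by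
              rw [Fin.fin_one_eq_zero i, Sigma.ι_desc_assoc]
              erw [Category.id_comp, Category.comp_id]; rfl }
  | succ k =>
    have h : IsZero (∐ fun _ : Fin (Nat.choose 0 (k + 1)) => T (a + (0 : ℕ) - (k + 1 : ℕ))) := by
      rw [IsZero.iff_id_eq_zero]
      exact Sigma.hom_ext _ _ fun i => absurd i.2 (Nat.not_lt_zero _)
    exact ⟨(HomologicalComplex.isZero_single_obj_X _ _ _ _ (by omega)).iso h⟩

theorem IsKoszulShape.step {T : ℤ → C} {m : ℕ} {S : Stage C J} (h : IsKoszulShape T m S.K) (s : J) :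
    IsKoszulShape T (m + 1) (S.step s).K := by
  refine ⟨fun a k => ?_, fun a i hi => ?_⟩
  · let e := HomologicalComplex.homotopyCofiber.XIsoBiprod (S.M s a) (-(k : ℤ)) (-(k : ℤ) + 1) rfl
    obtain ⟨e₂⟩ := h.1 (a + 1) k
    cases k with
    | zero =>
      have hz : IsZero ((S.K a).X (-((0 : ℕ) : ℤ) + 1)) := h.2 a _ (by simp)
      exact ⟨e ≪≫
        { hom := biprod.snd
          inv := biprod.inr
          hom_inv_id := biprod.hom_ext' _ _ (hz.eq_of_src _ _) (by simp) } ≪≫ e₂ ≪≫
        Sigma.whiskerEquiv (finCongr (by simp)) (fun _ => eqToIso (by congr 1; push_cast; omega))⟩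
    | succ k =>
      obtain ⟨e₁⟩ := h.1 a k
      obtain ⟨e₃⟩ := nonempty_sigma_add (T (a + (m + 1 : ℕ) - (k + 1 : ℕ))) (m.choose k) (m.choose (k + 1))
      exact ⟨e ≪≫ biprod.mapIso (eqToIso (by congr 1; push_cast; omega) ≪≫ e₁ ≪≫
          Sigma.mapIso fun _ => eqToIso (by congr 1; push_cast; omega))
          (e₂ ≪≫ Sigma.mapIso fun _ => eqToIso (by congr 1; push_cast; omega)) ≪≫ e₃ ≪≫
        Sigma.whiskerEquiv (f := fun _ : Fin (m.choose k + m.choose (k + 1)) => T (a + (m + 1 : ℕ) - (k + 1 : ℕ)))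
          (g := fun _ : Fin ((m + 1).choose (k + 1)) => T (a + (m + 1 : ℕ) - (k + 1 : ℕ)))
          (finCongr (Nat.choose_succ_succ m k).symm) (fun _ => Iso.refl _)⟩
  · exact IsZero.of_iso ((biprod_isZero_iff _ _).2 ⟨h.2 a (i + 1) (by omega), h.2 (a + 1) i hi⟩)
      (HomologicalComplex.homotopyCofiber.XIsoBiprod (S.M s a) i (i + 1) rfl)

theorem isKoszulShape_iter (T : ℤ → C) (μ : J → ∀ a, T a ⟶ T (a + 1))
    (hμ : ∀ i j a, μ i a ≫ μ j (a + 1) = μ j a ≫ μ i (a + 1)) (l : List J) :
    IsKoszulShape T l.length ((Stage.base T μ hμ).iter l).K := by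
  induction l with
  | nil => exact isKoszulShape_base T μ hμ
  | cons s l ih => exact ih.step s

theorem IsKoszulShape.isZero_of_lt {T : ℤ → C} {m : ℕ} {K : ℤ → CochainComplex C ℤ} (h : IsKoszulShape T m K)
    (a i : ℤ) (hi : i < -(m : ℤ)) : IsZero ((K a).X i) := by
  obtain ⟨k, rfl⟩ : ∃ k : ℕ, i = -(k : ℤ) := ⟨(-i).toNat, by omega⟩
  obtain ⟨e⟩ := h.1 a k
  refine IsZero.of_iso ?_ e
  rw [IsZero.iff_id_eq_zero]
  exact Sigma.hom_ext _ _ fun j => absurd j.2 (by simp [Nat.choose_eq_zero_of_lt (show m < k by omega)])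

theorem IsKoszulShape.exists_shift {T : ℤ → C} {n : ℕ} {K : ℤ → CochainComplex C ℤ} (h : IsKoszulShape T (n + 1) K)
    (a : ℤ) (hex : ∀ k, (K a).ExactAt k) :
    ∃ L : CochainComplex C ℤ, (∀ i : ℤ, L.ExactAt i) ∧
      (∀ i : ℕ, i ≤ n + 1 → Nonempty (L.X (i : ℤ) ≅ ∐ fun _ : Fin (Nat.choose (n + 1) i) => T (a + i))) ∧
      (∀ i : ℤ, i < 0 ∨ (n : ℤ) + 1 < i → IsZero (L.X i)) := by
  refine ⟨(CategoryTheory.shiftFunctor _ (-((n : ℤ) + 1))).obj (K a), fun i => ?_, fun i hi => ?_, fun i hi => ?_⟩
  · exact (ShortComplex.exact_iff_of_iso ((CochainComplex.shiftShortComplexFunctorIso _ (-((n : ℤ) + 1)) i _ rfl).app (K a))).2 (hex _)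
  · obtain ⟨e⟩ := h.1 a (n + 1 - i)
    refine ⟨eqToIso ?_ ≪≫ e ≪≫ Sigma.whiskerEquiv (finCongr (Nat.choose_symm hi)) (fun _ => eqToIso ?_)⟩
    · show (K a).X ((i : ℤ) + -((n : ℤ) + 1)) = _
      congr 1; omega
    · show T _ = T _
      congr 1; omega
  · show IsZero ((K a).X (i + -((n : ℤ) + 1)))
    rcases hi with hi | hi
    · exact h.isZero_of_lt a _ (by push_cast; omega)
    · exact h.2 a _ (by omega)

end Terms

section Acyclic

variable {D : Type u'} [Category.{v'} D] [Abelian D] (R : C ⥤ D) [R.Additive]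

/-- The image of a complex in the homotopy category after applying an additive functor. -/
noncomputable abbrev img (K : CochainComplex C ℤ) : HomotopyCategory D (ComplexShape.up ℤ) :=
  (HomotopyCategory.quotient D _).obj ((R.mapHomologicalComplex _).obj K)

theorem isZero_img_cone {K L : CochainComplex C ℤ} (f : K ⟶ L)
    (h : IsIso ((HomotopyCategory.quotient D _).map ((R.mapHomologicalComplex _).map f))) :
    IsZero (img R (CochainComplex.mappingCone f)) :=
  IsZero.of_iso ((Triangle.isZero₃_iff_isIso₁ _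
    (HomotopyCategory.mappingCone_triangleh_distinguished ((R.mapHomologicalComplex _).map f))).2 h)
    ((HomotopyCategory.quotient D _).mapIso (CochainComplex.mappingCone.mapHomologicalComplexIso f R))

theorem isIso_img_iter (T : ℤ → C) (μ : J → ∀ a, T a ⟶ T (a + 1))
    (hμ : ∀ i j a, μ i a ≫ μ j (a + 1) = μ j a ≫ μ i (a + 1)) (s : J) (hs : ∀ a, IsIso (R.map (μ s a)))
    (l : List J) (a : ℤ) :
    IsIso ((R.mapHomologicalComplex (ComplexShape.up ℤ)).map (((Stage.base T μ hμ).iter l).M s a)) := by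
  induction l generalizing a with
  | nil =>
    have : ∀ i, IsIso (((R.mapHomologicalComplex (ComplexShape.up ℤ)).map ((Stage.base T μ hμ).M s a)).f i) := by
      intro i
      by_cases hi : i = 0
      · subst hi
        have := hs a
        simp only [Stage.base, Functor.mapHomologicalComplex_map_f, HomologicalComplex.single_map_f_self, Functor.map_comp]
        infer_instance
      · exact ⟨⟨0, (R.map_isZero (HomologicalComplex.isZero_single_obj_X _ _ _ _ hi)).eq_of_src _ _,
          (R.map_isZero (HomologicalComplex.isZero_single_obj_X _ _ _ _ hi)).eq_of_src _ _⟩⟩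
    exact @HomologicalComplex.Hom.isIso_of_components _ _ _ _ _ _ _ _ this
  | cons t l ih =>
    let S := (Stage.base T μ hμ).iter l
    have h1 := ih a
    have h2 := ih (a + 1)
    have : ∀ i, IsIso (((R.mapHomologicalComplex (ComplexShape.up ℤ)).map ((S.step t).M s a)).f i) := by
      intro i
      have e1 : IsIso (R.map ((S.M s a).f (i + 1))) :=
        inferInstanceAs (IsIso ((HomologicalComplex.eval D _ (i + 1)).map ((R.mapHomologicalComplex (ComplexShape.up ℤ)).map (S.M s a))))
      have e2 : IsIso (R.map ((S.M s (a + 1)).f i)) :=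
        inferInstanceAs (IsIso ((HomologicalComplex.eval D _ i).map ((R.mapHomologicalComplex (ComplexShape.up ℤ)).map (S.M s (a + 1)))))
      let X₁ := HomologicalComplex.homotopyCofiber.XIsoBiprod (S.M t a) i (i + 1) rfl
      let X₂ := HomologicalComplex.homotopyCofiber.XIsoBiprod (S.M t (a + 1)) i (i + 1) rfl
      have hf : ((S.step t).M s a).f i = X₁.hom ≫ biprod.map ((S.M s a).f (i + 1)) ((S.M s (a + 1)).f i) ≫ X₂.inv := by
        rw [← cancel_epi X₁.inv, X₁.inv_hom_id_assoc]
        refine biprod.hom_ext' _ _ ?_ ?_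
        · rw [biprod.inl_map_assoc, HomologicalComplex.homotopyCofiber.inl_XIsoBiprod_inv_assoc,
            HomologicalComplex.homotopyCofiber.inl_XIsoBiprod_inv]
          refine Eq.trans (CochainComplex.mappingCone.inl_v_desc_f (S.M t a) _ _ (by simp; rw [← CochainComplex.HomComplex.Cochain.ofHom_comp, ← CochainComplex.HomComplex.Cochain.ofHom_comp, ← CochainComplex.HomComplex.Cochain.ofHom_comp, ← CochainComplex.HomComplex.Cochain.ofHom_comp, reassoc_of% S.comm s t a]) (i + 1) i (by omega)) ?_
          simp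
          rfl
        · rw [biprod.inr_map_assoc, HomologicalComplex.homotopyCofiber.inr_XIsoBiprod_inv_assoc,
            HomologicalComplex.homotopyCofiber.inr_XIsoBiprod_inv]
          exact CochainComplex.mappingCone.inr_f_desc_f (S.M t a) _ _ (by simp; rw [← CochainComplex.HomComplex.Cochain.ofHom_comp, ← CochainComplex.HomComplex.Cochain.ofHom_comp, ← CochainComplex.HomComplex.Cochain.ofHom_comp, ← CochainComplex.HomComplex.Cochain.ofHom_comp, reassoc_of% S.comm s t a]) i
      have : IsIso (R.map (biprod.map ((S.M s a).f (i + 1)) ((S.M s (a + 1)).f i))) := by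
        refine ⟨⟨R.map biprod.fst ≫ inv (R.map ((S.M s a).f (i + 1))) ≫ R.map biprod.inl +
          R.map biprod.snd ≫ inv (R.map ((S.M s (a + 1)).f i)) ≫ R.map biprod.inr, ?_, ?_⟩⟩
        · rw [← cancel_mono (𝟙 _)]
          simp only [Preadditive.comp_add, ← Functor.map_comp_assoc, biprod.map_fst, biprod.map_snd,
            Functor.map_comp, Category.assoc, IsIso.hom_inv_id_assoc, Category.comp_id]
          rw [← Functor.map_comp, ← Functor.map_comp, ← Functor.map_add, biprod.total, CategoryTheory.Functor.map_id]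
        · simp only [Preadditive.add_comp, Category.assoc, ← Functor.map_comp, biprod.inl_map, biprod.inr_map]
          simp only [Functor.map_comp, IsIso.inv_hom_id_assoc]
          rw [← Functor.map_comp, ← Functor.map_comp, ← Functor.map_add, biprod.total, CategoryTheory.Functor.map_id]
      rw [Functor.mapHomologicalComplex_map_f, hf, Functor.map_comp, Functor.map_comp]
      infer_instance
    exact @HomologicalComplex.Hom.isIso_of_components _ _ _ _ _ _ _ _ this

theorem isZero_img_iter (T : ℤ → C) (μ : J → ∀ a, T a ⟶ T (a + 1))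
    (hμ : ∀ i j a, μ i a ≫ μ j (a + 1) = μ j a ≫ μ i (a + 1)) (s : J) (hs : ∀ a, IsIso (R.map (μ s a)))
    (l : List J) (hl : s ∈ l) (a : ℤ) : IsZero (img R (((Stage.base T μ hμ).iter l).K a)) := by
  induction l generalizing a with
  | nil => simp at hl
  | cons t l ih =>
    refine isZero_img_cone R _ ?_
    by_cases hts : t = s
    · subst hts
      have := isIso_img_iter R T μ hμ t hs l a
      infer_instance
    · have hl' : s ∈ l := by simpa [Ne.symm hts] using hl
      exact ⟨⟨0, (ih hl' a).eq_of_src _ _, (ih hl' (a + 1)).eq_of_src _ _⟩⟩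

theorem exactAt_img (K : CochainComplex C ℤ) (h : IsZero (img R K)) (i : ℤ) :
    ((R.mapHomologicalComplex (ComplexShape.up ℤ)).obj K).ExactAt i := by
  rw [HomologicalComplex.exactAt_iff_isZero_homology]
  exact IsZero.of_iso ((HomotopyCategory.homologyFunctor D (ComplexShape.up ℤ) i).map_isZero h)
    ((HomotopyCategory.homologyFunctorFactors D (ComplexShape.up ℤ) i).app _).symm

end Acyclic

end Groth.Agent.KoszPn17
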