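import Mathlib.Algebra.Homology.DerivedCategory.SingleTriangle
import Mathlib.Algebra.Homology.DerivedCategory.TStructure
import Mathlib.Algebra.Homology.HomologicalComplexAbelian
import Mathlib.CategoryTheory.Limits.Shapes.Biproducts

/-!
# Left orthogonals of an object of a derived category
-/

set_option autoImplicit false
set_option backward.isDefEq.respectTransparency false
set_option linter.style.haveILetI false
set_option linter.unusedSectionVars false

universe w v u

open CategoryTheory CategoryTheory.Limits CategoryTheory.Pretriangulated DerivedCategory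
open scoped ZeroObject

namespace Groth.Agent.KoszPn17

variable {C : Type u} [Category.{v} C] [Abelian C] [HasDerivedCategory.{w} C] (K : DerivedCategory C)

/-- All maps from shifts of `Z` to `K` vanish. -/
def O (Z : DerivedCategory C) : Prop := ∀ (m : ℤ) (φ : Z⟦m⟧ ⟶ K), φ = 0

/-- All maps from shifts of an object of the heart to `K` vanish. -/
abbrev Orth (F : C) : Prop := O K ((singleFunctor C 0).obj F)

variable {K}

theorem O.of_iso {Z Z' : DerivedCategory C} (h : O K Z) (e : Z ≅ Z') : O K Z' := fun m φ => by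
  rw [← cancel_epi ((shiftFunctor _ m).map e.hom), comp_zero]
  exact h m _

theorem O.shift {Z : DerivedCategory C} (h : O K Z) (n : ℤ) : O K (Z⟦n⟧) := fun m φ => by
  rw [← cancel_epi ((shiftFunctorAdd' _ n m (n + m) rfl).hom.app Z), comp_zero]
  exact h _ _

theorem O.of_isZero {Z : DerivedCategory C} (h : IsZero Z) : O K Z := fun m _ =>
  ((shiftFunctor _ m).map_isZero h).eq_of_src _ _

theorem O.mid {T : Triangle (DerivedCategory C)} (hT : T ∈ distTriang _) (h₁ : O K T.obj₁) (h₃ : O K T.obj₃) :
    O K T.obj₂ := fun m φ => by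
  obtain ⟨g, rfl⟩ := Triangle.yoneda_exact₂ _ (Triangle.shift_distinguished _ hT m) φ (h₁ m _)
  rw [show g = 0 from h₃ m g, comp_zero]

theorem O.third {T : Triangle (DerivedCategory C)} (hT : T ∈ distTriang _) (h₁ : O K T.obj₁) (h₂ : O K T.obj₂) :
    O K T.obj₃ := fun m φ => by
  obtain ⟨g, rfl⟩ := Triangle.yoneda_exact₃ _ (Triangle.shift_distinguished _ hT m) φ (h₂ m _)
  rw [show g = 0 from (h₁.shift m) 1 g, comp_zero]

theorem O.first {T : Triangle (DerivedCategory C)} (hT : T ∈ distTriang _) (h₂ : O K T.obj₂) (h₃ : O K T.obj₃) :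
    O K T.obj₁ := by
  refine (O.mid (inv_rot_of_distTriang _ hT) (h₃.shift (-1)) h₂ : O K _)

theorem Orth.biproduct {ι : Type} [Finite ι] {N : ι → C} [HasBiproduct N] (h : ∀ j, Orth K (N j)) :
    Orth K (⨁ N) := fun m φ => by
  cases nonempty_fintype ι
  classical
  let F := singleFunctor C 0 ⋙ shiftFunctor (DerivedCategory C) m
  have : F.map (𝟙 (⨁ N)) ≫ φ = 0 := by
    rw [← biproduct.total, Functor.map_sum, Preadditive.sum_comp]
    refine Finset.sum_eq_zero fun j _ => ?_
    rw [Functor.map_comp, Category.assoc]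
    rw [show F.map (biproduct.ι N j) ≫ φ = 0 from h j m _, comp_zero]
  rwa [CategoryTheory.Functor.map_id, Category.id_comp] at this

theorem Orth.of_iso' {F G : C} (h : Orth K F) (e : F ≅ G) : Orth K G :=
  O.of_iso h ((singleFunctor C 0).mapIso e)

theorem O.single {F : C} (h : Orth K F) (b : ℤ) :
    O K (Q.obj ((HomologicalComplex.single C (ComplexShape.up ℤ) b).obj F)) :=
  ((h.shift (-b)).of_iso ((((singleFunctors C).shiftIso (-b) b 0 (by omega))).app F)).of_iso
    ((singleFunctorIsoCompQ C b).app F)

theorem isZero_Q (L : CochainComplex C ℤ) (hex : ∀ i, L.ExactAt i) : IsZero (Q.obj L) := by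
  let Z : CochainComplex C ℤ := (HomologicalComplex.single C (ComplexShape.up ℤ) 0).obj 0
  have hZ : IsZero Z := (HomologicalComplex.single C (ComplexShape.up ℤ) 0).map_isZero (isZero_zero C)
  haveI : QuasiIso (0 : L ⟶ Z) := ⟨fun i => by
    rw [quasiIsoAt_iff_isIso_homologyMap]
    exact ⟨0, ((HomologicalComplex.exactAt_iff_isZero_homology _ _).1 (hex i)).eq_of_src _ _,
      ((HomologicalComplex.homologyFunctor C (ComplexShape.up ℤ) i).map_isZero hZ).eq_of_src _ _⟩⟩
  exact (Q.map_isZero hZ).of_iso (asIso (Q.map (0 : L ⟶ Z)))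

/-- A bounded complex with orthogonal terms is orthogonal. -/
theorem O.of_terms : ∀ (n : ℕ) (L : CochainComplex C ℤ) (b : ℤ),
    (∀ i, i ≤ b - n ∨ b < i → IsZero (L.X i)) → (∀ i, b - n < i → i ≤ b → Orth K (L.X i)) → O K (Q.obj L) := by
  intro n
  induction n with
  | zero =>
    intro L b hz _
    exact O.of_isZero (Q.map_isZero ((IsZero.iff_id_eq_zero _).2 (by
      ext i
      exact (hz i (by rcases le_or_gt i b with h | h <;> [left; right] <;> omega)).eq_of_src _ _)))
  | succ n ih =>
    intro L b hz ho
    have hd : L.d b (b + 1) = 0 := (hz (b + 1) (Or.inr (by omega))).eq_of_tgt _ _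
    let ι : (HomologicalComplex.single C (ComplexShape.up ℤ) b).obj (L.X b) ⟶ L :=
      HomologicalComplex.mkHomFromSingle (𝟙 (L.X b)) (fun j hj => by
        obtain rfl : b + 1 = j := hj
        rw [hd, comp_zero])
    have hι : ∀ m, Mono (ι.f m) := fun m => by
      by_cases hm : m = b
      · subst hm; simp only [ι, HomologicalComplex.mkHomFromSingle_f]; infer_instance
      · exact ⟨fun a c _ => (HomologicalComplex.isZero_single_obj_X (ComplexShape.up ℤ) b _ m hm).eq_of_tgt a c⟩
    have : Mono ι := HomologicalComplex.mono_of_mono_f ι hι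
    let S := ShortComplex.mk ι (cokernel.π ι) (cokernel.condition ι)
    have hS : S.ShortExact :=
      { exact := ShortComplex.exact_cokernel ι
        mono_f := inferInstanceAs (Mono ι)
        epi_g := inferInstanceAs (Epi (cokernel.π ι)) }
    have hepi : ∀ m, Epi ((cokernel.π ι).f m) := fun m =>
      inferInstanceAs (Epi ((HomologicalComplex.eval C (ComplexShape.up ℤ) m).map (cokernel.π ι)))
    have hC : ∀ m : ℤ, m ≠ b → Nonempty (L.X m ≅ (cokernel ι).X m) := fun m hm => by
      have hex : ((S.map (HomologicalComplex.eval C (ComplexShape.up ℤ) m))).ShortExact :=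
        hS.map_of_exact _
      haveI : IsIso ((cokernel.π ι).f m) := (hex.isIso_g_iff).2 (HomologicalComplex.isZero_single_obj_X (ComplexShape.up ℤ) b _ m hm)
      exact ⟨asIso ((cokernel.π ι).f m)⟩
    have hCb : IsZero ((cokernel ι).X b) := by
      have hw : ι.f b ≫ (cokernel.π ι).f b = 0 := by
        rw [← HomologicalComplex.comp_f, cokernel.condition]; rfl
      haveI : IsIso (ι.f b) := by simp only [ι, HomologicalComplex.mkHomFromSingle_f]; infer_instance
      rw [IsZero.iff_id_eq_zero, ← cancel_epi ((cokernel.π ι).f b), Category.comp_id, comp_zero]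
      exact (cancel_epi (ι.f b)).1 (hw.trans comp_zero.symm)
    refine O.mid (triangleOfSES_distinguished hS) (O.single (ho b (by push_cast; omega) le_rfl) b) ?_
    refine ih (cokernel ι) (b - 1) (fun i hi => ?_) fun i h1 h2 => ?_
    · by_cases h : i = b
      · subst h; exact hCb
      · obtain ⟨e⟩ := hC i h
        exact (hz i (by rcases hi with hi | hi <;> [left; right] <;> push_cast <;> omega)).of_iso e.symm
    · obtain ⟨e⟩ := hC i (by omega)
      exact (ho i (by push_cast; omega) (by omega)).of_iso' e

/-- An exact bounded complex all of whose terms but one are orthogonal has orthogonal last term. -/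
theorem Orth.of_exact_bot (L : CochainComplex C ℤ) (a b : ℤ) (hab : a ≤ b) (hz : ∀ i, i < a ∨ b < i → IsZero (L.X i))
    (hex : ∀ i, L.ExactAt i) (ho : ∀ i, a < i → i ≤ b → Orth K (L.X i)) : Orth K (L.X a) := by
  let π : L ⟶ (HomologicalComplex.single C (ComplexShape.up ℤ) a).obj (L.X a) :=
    HomologicalComplex.mkHomToSingle (𝟙 (L.X a)) (fun i hi => by
      obtain rfl : i + 1 = a := hi
      exact (hz i (Or.inl (by omega))).eq_of_src _ _)
  have hπ : ∀ m, Epi (π.f m) := fun m => by
    by_cases hm : m = a
    · subst hm; simp only [π, HomologicalComplex.mkHomToSingle_f]; infer_instance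
    · exact ⟨fun c d _ => (HomologicalComplex.isZero_single_obj_X (ComplexShape.up ℤ) a _ m hm).eq_of_src c d⟩
  have : Epi π := HomologicalComplex.epi_of_epi_f π hπ
  let S := ShortComplex.mk (kernel.ι π) π (kernel.condition π)
  have hS : S.ShortExact :=
    { exact := ShortComplex.exact_kernel π
      mono_f := inferInstanceAs (Mono (kernel.ι π))
      epi_g := inferInstanceAs (Epi π) }
  have hex' : ∀ m, ((S.map (HomologicalComplex.eval C (ComplexShape.up ℤ) m))).ShortExact :=
    fun m => hS.map_of_exact _
  have hK : ∀ m : ℤ, m ≠ a → Nonempty ((kernel π).X m ≅ L.X m) := fun m hm => by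
    haveI : IsIso ((kernel.ι π).f m) := ((hex' m).isIso_f_iff).2 (HomologicalComplex.isZero_single_obj_X (ComplexShape.up ℤ) a _ m hm)
    exact ⟨asIso ((kernel.ι π).f m)⟩
  have hKa : IsZero ((kernel π).X a) := by
    have hw : (kernel.ι π).f a ≫ π.f a = 0 := by
      rw [← HomologicalComplex.comp_f, kernel.condition]; rfl
    haveI : IsIso (π.f a) := by simp only [π, HomologicalComplex.mkHomToSingle_f]; infer_instance
    haveI : Mono ((kernel.ι π).f a) := inferInstanceAs (Mono ((HomologicalComplex.eval C (ComplexShape.up ℤ) a).map (kernel.ι π)))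
    rw [IsZero.iff_id_eq_zero, ← cancel_mono ((kernel.ι π).f a), Category.id_comp, zero_comp]
    exact (cancel_mono (π.f a)).1 (hw.trans zero_comp.symm)
  have h₁ : O K (Q.obj (kernel π)) := by
    refine O.of_terms (b - a).toNat (kernel π) b (fun i hi => ?_) fun i h1 h2 => ?_
    · by_cases h : i = a
      · subst h; exact hKa
      · obtain ⟨e⟩ := hK i h
        exact (hz i (by rcases hi with hi | hi <;> [left; right] <;> omega)).of_iso e
    · obtain ⟨e⟩ := hK i (by omega)
      exact (ho i (by omega) h2).of_iso' e.symm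
  have hL : O K (Q.obj L) := O.of_isZero (isZero_Q L hex)
  have h3 : O K (Q.obj ((HomologicalComplex.single C (ComplexShape.up ℤ) a).obj (L.X a))) :=
    O.third (triangleOfSES_distinguished hS) h₁ hL
  exact ((h3.of_iso ((singleFunctorIsoCompQ C a).app _).symm).shift a).of_iso
    ((((singleFunctors C).shiftIso a 0 a (by omega))).app _)

/-- An exact bounded complex all of whose terms but the top one are orthogonal has orthogonal top term. -/
theorem Orth.of_exact_top (L : CochainComplex C ℤ) (a b : ℤ) (hab : a ≤ b) (hz : ∀ i, i < a ∨ b < i → IsZero (L.X i))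
    (hex : ∀ i, L.ExactAt i) (ho : ∀ i, a ≤ i → i < b → Orth K (L.X i)) : Orth K (L.X b) := by
  have hd : L.d b (b + 1) = 0 := (hz (b + 1) (Or.inr (by omega))).eq_of_tgt _ _
  let ι : (HomologicalComplex.single C (ComplexShape.up ℤ) b).obj (L.X b) ⟶ L :=
    HomologicalComplex.mkHomFromSingle (𝟙 (L.X b)) (fun j hj => by
      obtain rfl : b + 1 = j := hj
      rw [hd, comp_zero])
  have hι : ∀ m, Mono (ι.f m) := fun m => by
    by_cases hm : m = b
    · subst hm; simp only [ι, HomologicalComplex.mkHomFromSingle_f]; infer_instance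
    · exact ⟨fun c d _ => (HomologicalComplex.isZero_single_obj_X (ComplexShape.up ℤ) b _ m hm).eq_of_tgt c d⟩
  have : Mono ι := HomologicalComplex.mono_of_mono_f ι hι
  let S := ShortComplex.mk ι (cokernel.π ι) (cokernel.condition ι)
  have hS : S.ShortExact :=
    { exact := ShortComplex.exact_cokernel ι
      mono_f := inferInstanceAs (Mono ι)
      epi_g := inferInstanceAs (Epi (cokernel.π ι)) }
  have hC : ∀ m : ℤ, m ≠ b → Nonempty (L.X m ≅ (cokernel ι).X m) := fun m hm => by
    have hex' : ((S.map (HomologicalComplex.eval C (ComplexShape.up ℤ) m))).ShortExact := hS.map_of_exact _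
    haveI : IsIso ((cokernel.π ι).f m) := (hex'.isIso_g_iff).2 (HomologicalComplex.isZero_single_obj_X (ComplexShape.up ℤ) b _ m hm)
    exact ⟨asIso ((cokernel.π ι).f m)⟩
  have hCb : IsZero ((cokernel ι).X b) := by
    have hw : ι.f b ≫ (cokernel.π ι).f b = 0 := by
      rw [← HomologicalComplex.comp_f, cokernel.condition]; rfl
    haveI : IsIso (ι.f b) := by simp only [ι, HomologicalComplex.mkHomFromSingle_f]; infer_instance
    haveI : Epi ((cokernel.π ι).f b) := inferInstanceAs (Epi ((HomologicalComplex.eval C (ComplexShape.up ℤ) b).map (cokernel.π ι)))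
    rw [IsZero.iff_id_eq_zero, ← cancel_epi ((cokernel.π ι).f b), Category.comp_id, comp_zero]
    exact (cancel_epi (ι.f b)).1 (hw.trans comp_zero.symm)
  have h₃ : O K (Q.obj (cokernel ι)) := by
    refine O.of_terms (b - a + 1).toNat (cokernel ι) b (fun i hi => ?_) fun i h1 h2 => ?_
    · by_cases h : i = b
      · subst h; exact hCb
      · obtain ⟨e⟩ := hC i h
        exact (hz i (by rcases hi with hi | hi <;> [left; right] <;> omega)).of_iso e.symm
    · by_cases h : i = b
      · subst h
        exact O.of_isZero ((singleFunctor C 0).map_isZero hCb)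
      · obtain ⟨e⟩ := hC i h
        exact (ho i (by omega) (by omega)).of_iso' e
  have hL : O K (Q.obj L) := O.of_isZero (isZero_Q L hex)
  have h1 : O K (Q.obj ((HomologicalComplex.single C (ComplexShape.up ℤ) b).obj (L.X b))) :=
    O.first (triangleOfSES_distinguished hS) hL h₃
  exact ((h1.of_iso ((singleFunctorIsoCompQ C b).app _).symm).shift b).of_iso
    ((((singleFunctors C).shiftIso b 0 b (by omega))).app _)

end Groth.Agent.KoszPn17
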