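import Groth.Agent.ProjVanish14.Basic
import Groth.Agent.BlowUpCoh.LocFree
import Groth.Agent.Quot8.TwistMap
import Groth.Agent.DQCoh.PerfFlatBC17
import Groth.Agent.Coherent.ProjSpaceCoh
import Groth.Agent.DCat.OpenDerived

/-!
# The direct image of the twists on projective space
-/

set_option autoImplicit false
set_option backward.isDefEq.respectTransparency false
set_option backward.isDefEq.respectTransparency.types false
set_option linter.style.haveILetI false

universe u

open CategoryTheory CategoryTheory.Limits DerivedCategory AlgebraicGeometry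
open Groth.Agent Groth.Agent.Coherent Groth.Agent.AmpleLib Groth.Agent.DCat

namespace Groth.Agent.KoszPn17

attribute [local instance] HasDerivedCategory.standard
attribute [-instance] Int.instConditionallyCompleteLinearOrder

variable (n : ℕ) (R : Type u) [CommRing R]

/-- Higher direct images of the twists vanish, except in top degree for very negative twists. -/
theorem isZero_rpushAb_twist_toSpec (d : ℤ) (q : ℕ) (h₀ : ¬ (q = 0 ∧ 0 ≤ d))
    (hn : ¬ (q = n ∧ d ≤ -((n : ℤ) + 1))) :
    IsZero ((Coh.RpushAb (CohB1.ProjSpace.toSpec n R) q).obj (Coh.toAb (Twist.twistProjSpace n R d))) := by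
  letI : Algebra (ULift.{u} ℤ) R := ((Int.castRingHom R).comp (ULift.ringEquiv : (ULift.{u} ℤ) ≃+* ℤ).toRingHom).toAlgebra
  have hR : Quot8.IsPn n (CohB1.ProjSpace.toSpec n R) (Quot8.projChange n (ULift.{u} ℤ) R) := by
    show IsPullback _ _ _ _
    rw [specULiftZIsTerminal.hom_ext (specULiftZIsTerminal.from _)
      (Spec.map (CommRingCat.ofHom (algebraMap (ULift.{u} ℤ) R)))]
    exact Coherent.isPullback_projSpace n (ULift.{u} ℤ) R
  obtain ⟨e⟩ := Quot8.nonempty_pullback_twistProjSpace n (ULift.{u} ℤ) R d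
  have h := ProjVanish14.isZero_rpushAb_twist hR (Coh.structureModule _) Coherent.isQCoh_structureModule q h₀ hn
  exact h.of_iso ((Coh.RpushAb _ q).mapIso ((toAbFunctor _).mapIso
    (AmpleLib.tensorIso (PicLoc.pullbackStructureIso (CohB1.ProjSpace.toSpec n R)) e ≪≫
      AmpleLib.unitTensorIso _))).symm

/-- `Rπ_* O(d)` is `π_* O(d)` for `d ≥ -n`. -/
theorem nonempty_Rpush_twist [DCoh.HasRpush (CohB1.ProjSpace.toSpec n R)] (d : ℤ) (hd : -(n : ℤ) ≤ d) :
    Nonempty ((DCoh.Rpush (CohB1.ProjSpace.toSpec n R)).obj (DCoh.inD _ (Twist.twistProjSpace n R d)) ≅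
      DCoh.inD _ ((Scheme.Modules.pushforward (CohB1.ProjSpace.toSpec n R)).obj (Twist.twistProjSpace n R d))) := by
  let f := CohB1.ProjSpace.toSpec n R
  let M := Twist.twistProjSpace n R d
  haveI := Coherent.hasInjectiveResolutions_modules (CohB1.ProjSpace n R)
  haveI := isProper_projSpace_toSpec n R
  obtain ⟨e⟩ := DQCoh.PerfFlatBC17.nonempty_rpush_acyclic f ((HomologicalComplex.single _ (ComplexShape.up ℤ) 0).obj M)
    (fun i => by
      by_cases hi : i = 0
      · subst hi
        exact Coherent.isQCoh_of_iso (HomologicalComplex.singleObjXSelf (ComplexShape.up ℤ) 0 M).symm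
          (h := AmpleLib.isQCoh_of_isInvertible (Coherent.isInvertible_twistProjSpaceZ n d R))
      · exact Coherent.isQCoh_of_isZero (HomologicalComplex.isZero_single_obj_X _ _ _ _ hi))
    (fun i q hq => by
      by_cases hi : i = 0
      · subst hi
        exact (BlowUpCoh.isZero_rpush_of_rpushAb _
          (isZero_rpushAb_twist_toSpec n R d q (by omega) (by omega))).of_iso
          ((Coh.Rpush f q).mapIso (HomologicalComplex.singleObjXSelf (ComplexShape.up ℤ) 0 M))
      · exact (Coh.Rpush f q).map_isZero (HomologicalComplex.isZero_single_obj_X _ _ _ _ hi))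
  exact ⟨(DCoh.Rpush f).mapIso ((singleFunctorIsoCompQ _ 0).app M) ≪≫ e ≪≫
    DerivedCategory.Q.mapIso ((HomologicalComplex.singleMapHomologicalComplex (Scheme.Modules.pushforward f)
      (ComplexShape.up ℤ) 0).app M) ≪≫ ((singleFunctorIsoCompQ _ 0).app _).symm⟩

/-- `Rπ_* O(d) = 0` for `-n ≤ d < 0`. -/
theorem isZero_Rpush_twist [DCoh.HasRpush (CohB1.ProjSpace.toSpec n R)] (d : ℤ) (hd : -(n : ℤ) ≤ d) (hd' : d < 0) :
    IsZero ((DCoh.Rpush (CohB1.ProjSpace.toSpec n R)).obj (DCoh.inD _ (Twist.twistProjSpace n R d))) := by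
  obtain ⟨e⟩ := nonempty_Rpush_twist n R d hd
  haveI := Coherent.hasInjectiveResolutions_modules (CohB1.ProjSpace n R)
  have h0 := BlowUpCoh.isZero_rpush_of_rpushAb _ (isZero_rpushAb_twist_toSpec n R d 0 (by omega) (by omega))
  exact ((singleFunctor _ 0).map_isZero
    (h0.of_iso ((Scheme.Modules.pushforward _).rightDerivedZeroIsoSelf.app _).symm)).of_iso e

end Groth.Agent.KoszPn17
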