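import Groth.Agent.KoszPn17.PnExcApps17
import Groth.Agent.DCat.FinBrownModel17

/-!
# Representability of finite cohomological functors on perfect objects of projective schemes
-/

set_option autoImplicit false
set_option backward.isDefEq.respectTransparency false
set_option backward.isDefEq.respectTransparency.types false
set_option linter.style.haveILetI false
set_option linter.unusedSectionVars false

universe u

open CategoryTheory CategoryTheory.Limits CategoryTheory.Pretriangulated AlgebraicGeometry Opposite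
open Groth.Agent Groth.Agent.DCat Groth.Agent.DCat.ExcDevissage17

namespace Groth.Agent.KoszPn17.PnExc17

attribute [local instance] HasDerivedCategory.standard
attribute [-instance] Int.instConditionallyCompleteLinearOrder

variable {k : Type u} [Field k] {X : Scheme.{u}} [X.Over (Spec (CommRingCat.of k))]

/-- The BVdB theorem for H-projective schemes. -/
theorem bvdb (hproj : RelProj.IsHProjective (X ↘ Spec (CommRingCat.of k)))
    [(SGA6.perfP X).IsTriangulated]
    (H : ((SGA6.perfP X).FullSubcategory)ᵒᵖ ⥤ ModuleCat.{u + 1} k) [H.Additive]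
    (hlin : ∀ (A B : (SGA6.perfP X).FullSubcategory) (r : k) (f : A ⟶ B), H.map (r • f).op = r • H.map f.op)
    (hcoh : ∀ T ∈ distTriang (DCoh.D X), ∀ (h₁ : DCoh.IsPerfect T.obj₁)
      (h₂ : DCoh.IsPerfect T.obj₂) (h₃ : DCoh.IsPerfect T.obj₃)
      (y : H.obj (op ⟨T.obj₂, h₂⟩)),
      H.map (ObjectProperty.homMk T.mor₁ : (⟨T.obj₁, h₁⟩ : (SGA6.perfP X).FullSubcategory) ⟶ ⟨T.obj₂, h₂⟩).op y = 0 →
        ∃ z : H.obj (op ⟨T.obj₃, h₃⟩),
          H.map (ObjectProperty.homMk T.mor₂ : (⟨T.obj₂, h₂⟩ : (SGA6.perfP X).FullSubcategory) ⟶ ⟨T.obj₃, h₃⟩).op z = y)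
    (hfin : ∀ E : (SGA6.perfP X).FullSubcategory,
      (∀ n : ℤ, Module.Finite k (H.obj (op ((shiftFunctor ((SGA6.perfP X).FullSubcategory) n).obj E)))) ∧
      Set.Finite {n : ℤ | Nontrivial (H.obj (op ((shiftFunctor ((SGA6.perfP X).FullSubcategory) n).obj E)))}) :
    ∃ K : DCoh.D X, SGA6.cohbP X K ∧
      Nonempty (H ≅ (ObjectProperty.ι (SGA6.perfP X)).op ⋙ (linearYoneda k (DCoh.D X)).obj K) := by
  obtain ⟨n, i, hi, hif⟩ := id hproj
  haveI := hi
  haveI : IsProper (X ↘ Spec (CommRingCat.of k)) := by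
    haveI : IsProper (CohB1.ProjSpaceOver.toBase n (Spec (CommRingCat.of k))) := by
      obtain ⟨c, hc, -⟩ := exists_projIso k n
      haveI := Coherent.isProper_projSpace_toSpec n k
      rw [show CohB1.ProjSpaceOver.toBase n (Spec (CommRingCat.of k)) = c.inv ≫ CohB1.ProjSpace.toSpec n k by
        rw [← hc, Iso.inv_hom_id_assoc]]
      infer_instance
    rw [← hif]
    infer_instance
  haveI : CompactSpace X := QuasiCompact.compactSpace_of_compactSpace (X ↘ Spec (CommRingCat.of k))
  haveI := LocallyOfFiniteType.isLocallyNoetherian (X ↘ Spec (CommRingCat.of k))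
  let Φ := SGA6.perfP X
  have hsh : ∀ (E : Φ.FullSubcategory) (t : ℤ),
      ((shiftFunctor Φ.FullSubcategory t).obj E).obj ≅ (shiftFunctor (DCoh.D X) t).obj E.obj := fun E t =>
    (Φ.ι.commShiftIso t).app E
  obtain ⟨K, hKq, ⟨θ⟩⟩ := FinBrownModel17.representable_perfect H hlin hcoh (fun E => by
    have h := (hfin E.unop).1 0
    exact Module.Finite.equiv (H.mapIso ((shiftFunctorZero Φ.FullSubcategory ℤ).app E.unop).symm.op).toLinearEquiv)
  refine ⟨K, (cohb_iff_projective hproj K hKq).2 fun E hE => (finFrom_iff E K).1 ?_, ⟨θ⟩⟩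
  let E' : Φ.FullSubcategory := ⟨E, hE⟩
  have e : ∀ t : ℤ, H.obj (op ((shiftFunctor Φ.FullSubcategory t).obj E')) ≃ₗ[k] (E⟦t⟧ ⟶ K) := fun t =>
    (θ.app (op ((shiftFunctor Φ.FullSubcategory t).obj E'))).toLinearEquiv.trans
      (Linear.homCongr k (hsh E' t) (Iso.refl K))
  exact ⟨fun t => by haveI := (hfin E').1 t; exact Module.Finite.equiv (e t),
    (hfin E').2.subset fun t ht => (e t).toEquiv.nontrivial_congr.2 ht⟩

end Groth.Agent.KoszPn17.PnExc17
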