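import Groth.Agent.KoszPn17.TwistGen
import Groth.Agent.KoszPn17.ProjSpace
import Groth.Agent.TwistLib.TwistInv
import Groth.Agent.TwistLib.G.Inv
import Groth.Agent.EulerLib.Twist
import Groth.Agent.UPLib.Sym

/-!
# The twists `O, O(-1), …, O(-n)` generate
-/

set_option autoImplicit false
set_option backward.isDefEq.respectTransparency false
set_option backward.isDefEq.respectTransparency.types false
set_option linter.style.haveILetI false

universe u

open CategoryTheory CategoryTheory.Limits DerivedCategory AlgebraicGeometry TopologicalSpace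
open Groth.Agent Groth.Agent.Coherent

namespace Groth.Agent.KoszPn17

attribute [local instance] HasDerivedCategory.standard
attribute [-instance] Int.instConditionallyCompleteLinearOrder

/-- `O(1)` is ample on projective space over any ring. -/
theorem isAmple_twist_projSpace (n : ℕ) (R : Type u) [CommRing R] :
    CohB1.IsAmple (Twist.twistProjSpace n R 1) :=
  haveI := Classical.decEq (MvPolynomial (Fin (n + 1)) R)
  TwistLib.G.isAmple_twist_one (𝒜 := CohB1.polyGrading n R)
    (Finset.univ.image MvPolynomial.X) (by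
      intro g hg
      obtain ⟨j, -, rfl⟩ := Finset.mem_image.1 hg
      exact MvPolynomial.isHomogeneous_X _ j)
    (by
      rw [Finset.coe_image, Finset.coe_univ, Set.image_univ]
      refine le_antisymm (ProjLib.irrelevant_le_span_X n _) (Ideal.span_le.2 ?_)
      rintro _ ⟨j, rfl⟩
      exact HomogeneousIdeal.mem_irrelevant_of_mem (CohB1.polyGrading n _) Nat.one_pos
        (MvPolynomial.isHomogeneous_X _ j))

variable (n : ℕ) (R : Type u) [CommRing R]

theorem covers_deg_one (x : ProjectiveSpectrum (CohB1.polyGrading n R)) :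
    ∃ f ∈ CohB1.polyGrading n R 1, f ∉ x.asHomogeneousIdeal.toIdeal := by
  obtain ⟨i, hi⟩ := UPLib.exists_degOne_projSpace (R := CommRingCat.of R) n x
  exact ⟨_, MvPolynomial.isHomogeneous_X R i, hi⟩

theorem nonempty_pow_one : ∀ m : ℕ,
    Nonempty (CohB1.tensorPow (Twist.twistProjSpace n R 1) m ≅ Twist.twistProjSpace n R (m : ℤ))
  | 0 => by
    obtain ⟨e⟩ := TwistLib.nonempty_twist_zero_iso (𝒜 := CohB1.polyGrading n R)
    exact ⟨e.symm⟩
  | m + 1 => by
    obtain ⟨e⟩ := nonempty_pow_one m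
    obtain ⟨e'⟩ := TwistLib.nonempty_tensor_twist_iso (𝒜 := CohB1.polyGrading n R) (covers_deg_one n R)
      (a := (m : ℤ)) (b := 1) (c := ((m + 1 : ℕ) : ℤ)) (by push_cast; ring)
    exact ⟨AmpleLib.tensorIso e (Iso.refl _) ≪≫ e'⟩

theorem nonempty_neg (d : ℤ) {M : (CohB1.ProjSpace n R).Modules}
    (e : CohB1.tensorMod M (Twist.twistProjSpace n R d) ≅ Coh.structureModule _) :
    Nonempty (M ≅ Twist.twistProjSpace n R (-d)) := by
  obtain ⟨e₁⟩ := TwistLib.nonempty_tensor_twist_iso (𝒜 := CohB1.polyGrading n R) (covers_deg_one n R)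
    (a := d) (b := -d) (c := 0) (by ring)
  obtain ⟨e₂⟩ := TwistLib.nonempty_twist_zero_iso (𝒜 := CohB1.polyGrading n R)
  obtain ⟨a⟩ := EulerLib.exists_assocIso' M (Coherent.isInvertible_twistProjSpaceZ n d R) (Coherent.isInvertible_twistProjSpaceZ n (-d) R)
  exact ⟨(AmpleLib.unitTensorIso M).symm ≪≫ AmpleLib.tensorComm _ _ ≪≫ AmpleLib.tensorIso (Iso.refl M) (e₁ ≪≫ e₂).symm ≪≫
    a.symm ≪≫ AmpleLib.tensorIso e (Iso.refl _) ≪≫ AmpleLib.unitTensorIso _⟩

theorem Orth.sigma {X : Scheme.{u}} {K : DerivedCategory X.Modules} (m : ℕ) (F : X.Modules) (h : Orth K F) :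
    Orth K (∐ fun _ : Fin m => F) :=
  (Orth.biproduct (N := fun _ : Fin m => F) fun _ => h).of_iso' (biproduct.isoCoproduct _)

variable {n R}

theorem orth_all (K : DCoh.D (CohB1.ProjSpace n R))
    (h : ∀ d : ℕ, d ≤ n → Orth K (Twist.twistProjSpace n R (-(d : ℤ)))) (d : ℤ) :
    Orth K (Twist.twistProjSpace n R d) := by
  let W : ℤ → Prop := fun d => ∀ i : ℤ, d ≤ i → i ≤ d + n → Orth K (Twist.twistProjSpace n R i)
  have h0 : W (-(n : ℤ)) := fun i h1 h2 => by
    obtain ⟨k, rfl⟩ : ∃ k : ℕ, i = -(k : ℤ) := ⟨(-i).toNat, by omega⟩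
    exact h k (by omega)
  have up : ∀ a, W a → W (a + 1) := fun a ha i h1 h2 => by
    rcases eq_or_lt_of_le h2 with rfl | h2'
    · obtain ⟨C, hex, hX, hz⟩ := exists_koszul n R a
      obtain ⟨e⟩ := hX (n + 1) le_rfl
      have hC : Orth K (C.X ((n + 1 : ℕ) : ℤ)) := Orth.of_exact_top C 0 _ (by omega)
        (fun i hi => hz i (by push_cast at hi ⊢; omega)) hex fun i h1 h2 => by
          obtain ⟨k, rfl⟩ : ∃ k : ℕ, i = (k : ℤ) := ⟨i.toNat, by omega⟩
          obtain ⟨ek⟩ := hX k (by omega)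
          exact (Orth.sigma _ _ (ha _ (by omega) (by push_cast at h2; omega))).of_iso' ek.symm
      have h1 : Orth K (∐ fun _ : Fin 1 => Twist.twistProjSpace n R (a + 1 + n)) :=
        hC.of_iso' (e ≪≫ Sigma.whiskerEquiv (finCongr (Nat.choose_self (n + 1))) fun _ => eqToIso (by congr 1; push_cast; ring))
      exact h1.of_iso' (coproductUniqueIso fun _ : Fin 1 => _)
    · exact ha i (by omega) (by omega)
  have down : ∀ a, W (a + 1) → W a := fun a ha i h1 h2 => by
    rcases eq_or_lt_of_le h1 with rfl | h1'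
    · obtain ⟨C, hex, hX, hz⟩ := exists_koszul n R a
      obtain ⟨e⟩ := hX 0 (Nat.zero_le _)
      have hC : Orth K (C.X ((0 : ℕ) : ℤ)) := Orth.of_exact_bot C _ ((n + 1 : ℕ) : ℤ) (by push_cast; omega)
        (fun i hi => hz i (by push_cast at hi ⊢; omega)) hex fun i h1 h2 => by
          obtain ⟨k, rfl⟩ : ∃ k : ℕ, i = (k : ℤ) := ⟨i.toNat, by simp at h1; omega⟩
          obtain ⟨ek⟩ := hX k (by omega)
          exact (Orth.sigma _ _ (ha _ (by omega) (by omega))).of_iso' ek.symm
      have h1 : Orth K (∐ fun _ : Fin 1 => Twist.twistProjSpace n R a) :=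
        hC.of_iso' (e ≪≫ Sigma.whiskerEquiv (finCongr (Nat.choose_zero_right (n + 1))) fun _ => eqToIso (by congr 1; simp))
      exact h1.of_iso' (coproductUniqueIso fun _ : Fin 1 => _)
    · exact ha i (by omega) (by omega)
  have hall : ∀ k : ℕ, W (-(n : ℤ) + k) ∧ W (-(n : ℤ) - k) := by
    intro k
    induction k with
    | zero => exact ⟨by simpa using h0, by simpa using h0⟩
    | succ k ih =>
      refine ⟨?_, down _ ?_⟩
      · have := up _ ih.1
        rwa [add_assoc] at this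
      · have : -(n : ℤ) - ((k + 1 : ℕ) : ℤ) + 1 = -(n : ℤ) - k := by push_cast; ring
        rw [this]; exact ih.2
  rcases le_total (-(n : ℤ)) d with hd | hd
  · exact (hall (d + n).toNat).1 d (by omega) (by omega)
  · exact (hall (-(n : ℤ) - d).toNat).2 d (by omega) (by omega)

theorem twists_generate (K : DCoh.D (CohB1.ProjSpace n R)) (hK : DCoh.IsQCohD K)
    (h : ∀ d : ℕ, d ≤ n → Orth K (Twist.twistProjSpace n R (-(d : ℤ)))) : IsZero K := by
  have hA := isAmple_twist_projSpace n R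
  have hX := Desc19b.hasResolutionProperty_of_isAmple hA
  obtain ⟨hLi, hc, hx⟩ := AmpleLib.isAmple_iff_affGlocus.1 hA
  haveI := hc
  haveI : QuasiSeparatedSpace (CohB1.ProjSpace n R) := Desc19b.quasiSeparatedSpace_of_affine_loci fun x => by
    obtain ⟨m, -, b, hxb, -, hb⟩ := hx x
    exact ⟨_, b, AmpleLib.isInvertible_tensorPow hLi m, hxb, hb⟩
  refine isZero_of_orth hX K hK fun V hV => ?_
  obtain ⟨k, N, π, hπ, hN⟩ := Desc19b.exists_epi_negPow
    (fun P => ∃ m : ℕ, P = CohB1.tensorPow (Twist.twistProjSpace n R 1) m)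
    (fun x => by
      obtain ⟨m, -, b, hxb, -, hb⟩ := hx x
      exact ⟨_, b, ⟨m, rfl⟩, AmpleLib.isInvertible_tensorPow hLi m, hxb, hb⟩)
    V (Coherent.CohBC.isCoh_of_isFinLocFree hV)
  refine ⟨⨁ N, π, DCat.PerfTensor.isFinLocFree_of_iso (biproduct.isoCoproduct N).symm
    (DCat.PerfTensor.isFinLocFree_sigma N fun j => Coherent.isFinLocFree_of_invertible (hN j).1), hπ,
    Orth.biproduct fun j => ?_⟩
  obtain ⟨-, P, l, ⟨m, rfl⟩, -, ⟨e⟩⟩ := hN j
  obtain ⟨em⟩ := nonempty_pow_one n R m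
  obtain ⟨el⟩ : Nonempty (CohB1.tensorPow (CohB1.tensorPow (Twist.twistProjSpace n R 1) m) l ≅
      Twist.twistProjSpace n R ((m * l : ℕ) : ℤ)) := by
    obtain ⟨e', -⟩ := AmpleLib.exists_powPowIso hLi m l
    obtain ⟨eml⟩ := nonempty_pow_one n R (m * l)
    exact ⟨e' ≪≫ eml⟩
  obtain ⟨eN⟩ := nonempty_neg n R ((m * l : ℕ) : ℤ) (AmpleLib.tensorIso (Iso.refl (N j)) el.symm ≪≫ e)
  exact (orth_all K h _).of_iso' eN.symm

end Groth.Agent.KoszPn17
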