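import Groth.Agent.KoszPn17.PnUnit
import Groth.Agent.KoszPn17.TwistGenPn
import Groth.Agent.Dual22Lib.PscPush
import Groth.Agent.Dual22Lib.PscPushApps
import Groth.Agent.Coherent.ProjSpaceFlat
import Groth.Agent.DQCoh.Push
import Groth.Agent.DQCoh.RelTorBC

/-!
# Pseudo-coherence on projective space is detected by the direct images of the twists
-/

set_option autoImplicit false
set_option backward.isDefEq.respectTransparency false
set_option backward.isDefEq.respectTransparency.types false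
set_option linter.style.haveILetI false

universe u

open CategoryTheory CategoryTheory.Limits CategoryTheory.Pretriangulated DerivedCategory AlgebraicGeometry
open Groth.Agent Groth.Agent.Coherent Groth.Agent.DCat Groth.Agent.Dual22Lib.WeakExact Groth.Agent.Dual22Lib
open Groth.Agent.DQCoh Groth.Agent.AmpleLib

namespace Groth.Agent.KoszPn17

attribute [local instance] HasDerivedCategory.standard
attribute [-instance] Int.instConditionallyCompleteLinearOrder

variable (n : ℕ) (A : Type u) [CommRing A]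

/-- The invertibility of `O(d)`. -/
theorem hO (d : ℤ) : PicF.IsInvertible (Twist.twistProjSpace n A d) := Coherent.isInvertible_twistProjSpaceZ n d A

/-- Tensoring with `O(d)` on `D(O)`. -/
noncomputable abbrev G (d : ℤ) : DCoh.D (CohB1.ProjSpace n A) ⥤ DCoh.D (CohB1.ProjSpace n A) := Gd (hO n A d)

theorem nonempty_G_add (a b c : ℤ) (h : a + b = c) : Nonempty (G n A b ⋙ G n A a ≅ G n A c) := by
  obtain ⟨e⟩ := TwistLib.nonempty_tensor_twist_iso (𝒜 := CohB1.polyGrading n A) (covers_deg_one n A) h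
  exact nonempty_Gd_comp _ _ _ e

theorem nonempty_G_zero : Nonempty (G n A 0 ≅ 𝟭 _) := by
  obtain ⟨e⟩ := TwistLib.nonempty_twist_zero_iso (𝒜 := CohB1.polyGrading n A)
  exact nonempty_Gd_unit _ e

theorem isEquivalence_G (d : ℤ) : (G n A d).IsEquivalence := by
  obtain ⟨e⟩ := TwistLib.nonempty_tensor_twist_iso (𝒜 := CohB1.polyGrading n A) (covers_deg_one n A)
    (a := d) (b := -d) (c := 0) (by ring)
  obtain ⟨z⟩ := TwistLib.nonempty_twist_zero_iso (𝒜 := CohB1.polyGrading n A)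
  exact isEquivalence_Gd _ (hO n A (-d)) (e ≪≫ z)

theorem triExact_G (d : ℤ) : TriExact (G n A d) := by
  haveI := pfl_tensE (hO n A d)
  haveI := pfc_tensE (hO n A d)
  exact triExact_of_isTriangulated (tensE (Twist.twistProjSpace n A d)).mapDerivedCategory

variable [DCoh.HasRpush (CohB1.ProjSpace.toSpec n A)] [DCoh.HasLpull (CohB1.ProjSpace.toSpec n A)]

/-- The twisted structure sheaf as a pullback. -/
theorem nonempty_G_pull (d m : ℤ) :
    Nonempty ((G n A d).obj ((DCoh.Lpull (CohB1.ProjSpace.toSpec n A)).obj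
        ((DCoh.inD _ (Coh.structureModule (Spec (CommRingCat.of A))))⟦m⟧)) ≅
      (DCoh.inD _ (Twist.twistProjSpace n A d))⟦m⟧) := by
  haveI := pfl_tensE (hO n A d)
  haveI := pfc_tensE (hO n A d)
  obtain ⟨_, _⟩ := PullPerf.exists_commShift_Lpull (CohB1.ProjSpace.toSpec n A)
  obtain ⟨θ, -⟩ := exists_lift_pull n A
  let F := tensE (Twist.twistProjSpace n A d)
  exact ⟨F.mapDerivedCategory.mapIso (((DCoh.Lpull (CohB1.ProjSpace.toSpec n A)).commShiftIso m).app _ ≪≫
      (shiftFunctor _ m).mapIso θ) ≪≫ (F.mapDerivedCategory.commShiftIso m).app _ ≪≫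
    (shiftFunctor _ m).mapIso ((F.mapDerivedCategorySingleFunctor 0).app (Coh.structureModule _) ≪≫
      (singleFunctor _ 0).mapIso (AmpleLib.tensorComm _ _ ≪≫ AmpleLib.unitTensorIso _))⟩

/-- `Rπ_*(Lπ^*M ⊗ O(d)) = 0` for `-n ≤ d < 0`. -/
theorem isZero_push_pull (d : ℤ) (hd : -(n : ℤ) ≤ d) (hd' : d < 0) (M : DCoh.D (Spec (CommRingCat.of A)))
    (hM : DCoh.IsQCohD M) :
    IsZero ((DCoh.Rpush (CohB1.ProjSpace.toSpec n A)).obj ((G n A d).obj
      ((DCoh.Lpull (CohB1.ProjSpace.toSpec n A)).obj M))) := by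
  let f := CohB1.ProjSpace.toSpec n A
  haveI := isProper_projSpace_toSpec n A
  let F := DCoh.Lpull f ⋙ G n A d ⋙ DCoh.Rpush f
  have hF : TriExact F := (TenLocal.triExact_Lpull f).comp ((triExact_G n A d).comp (TenLocal.triExact_Rpush f))
  haveI := isEquivalence_G n A d
  have hFs : ∀ {κ : Type u} (Z : κ → DCoh.D (Spec (CommRingCat.of A))), (∀ k, DCoh.IsQCohD (Z k)) →
      PreservesColimit (Discrete.functor Z) F := fun {κ} Z hZ => by
    haveI := TenLocal.preservesCoproducts_Lpull f κ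
    haveI := TenLocal.preservesColimit_Rpush f ((DCoh.Lpull f ⋙ G n A d).obj ∘ Z) fun k =>
      isQCohD_Gd _ (DQCoh.isQCohD_Lpull f _ (hZ k))
    haveI : PreservesColimit (Discrete.functor Z ⋙ DCoh.Lpull f ⋙ G n A d) (DCoh.Rpush f) :=
      preservesColimit_of_iso_diagram _ (Discrete.compNatIsoDiscrete Z (DCoh.Lpull f ⋙ G n A d)).symm
    exact inferInstanceAs (PreservesColimit _ ((DCoh.Lpull f ⋙ G n A d) ⋙ DCoh.Rpush f))
  have h := isIso_of_gen F F hF hF hFs hFs (0 : F ⟶ F) (fun m => ?_) M hM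
  · haveI := h
    have h0 : ((0 : F ⟶ F).app M) = 0 := rfl
    refine (IsZero.iff_id_eq_zero _).2 ((cancel_mono ((0 : F ⟶ F).app M)).1 ?_)
    simp only [h0, comp_zero]
  · obtain ⟨e⟩ := nonempty_G_pull n A d m
    obtain ⟨_, _⟩ := exists_commShift_Rpush f
    have hz : IsZero (F.obj ((DCoh.inD _ (Coh.structureModule (Spec (CommRingCat.of A))))⟦m⟧)) :=
      ((shiftFunctor _ m).map_isZero (isZero_Rpush_twist n A d hd hd')).of_iso
        ((DCoh.Rpush f).mapIso e ≪≫ ((DCoh.Rpush f).commShiftIso m).app _)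
    exact ⟨0, hz.eq_of_src _ _, hz.eq_of_src _ _⟩

/-- The twists of pullbacks of pseudo-coherent objects have pseudo-coherent direct images. -/
theorem psc_push {K : DCoh.D (CohB1.ProjSpace n A)} (d : ℤ) (hK : ∀ m, DCoh.IsPseudoCoherentD m K) (m : ℤ) :
    DCoh.IsPseudoCoherentD m ((DCoh.Rpush (CohB1.ProjSpace.toSpec n A)).obj ((G n A d).obj K)) := by
  haveI := isProper_projSpace_toSpec n A
  haveI : LocallyOfFinitePresentation (CohB1.ProjSpace.toSpec n A) := by
    haveI := Coherent.isProper_projSpace_toSpec n (ULift.{u} ℤ)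
    haveI : IsNoetherianRing (ULift.{u} ℤ) := isNoetherianRing_of_ringEquiv ℤ ULift.ringEquiv.symm
    haveI : LocallyOfFinitePresentation (CohB1.ProjSpace.toSpec n (ULift.{u} ℤ)) :=
      Coherent.CohBC.locallyOfFinitePresentation_of_isLocallyNoetherian _
    letI : Algebra (ULift.{u} ℤ) A := ((Int.castRingHom A).comp (ULift.ringEquiv : (ULift.{u} ℤ) ≃+* ℤ).toRingHom).toAlgebra
    exact MorphismProperty.of_isPullback (P := @LocallyOfFinitePresentation)
      (Coherent.isPullback_projSpace n (ULift.{u} ℤ) A) inferInstance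
  exact Dual22Lib.PscPush.psc_Rpush_flat _ _ (fun k => psc_Gd _ (hK k)) m

theorem isZero_of_push_zero (E : DCoh.D (CohB1.ProjSpace n A)) (hE : DCoh.IsQCohD E)
    (h : ∀ d : ℕ, d ≤ n → IsZero ((DCoh.Rpush (CohB1.ProjSpace.toSpec n A)).obj ((G n A d).obj E))) : IsZero E := by
  obtain ⟨adj⟩ := nonempty_pullPushAdj (CohB1.ProjSpace.toSpec n A)
  refine twists_generate E hE fun d hd m φ => ?_
  haveI := isEquivalence_G n A d
  obtain ⟨e⟩ := nonempty_G_pull n A (-(d : ℤ)) m
  obtain ⟨a⟩ := nonempty_G_add n A d (-(d : ℤ)) 0 (by ring)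
  obtain ⟨z⟩ := nonempty_G_zero n A
  let b := (G n A d).mapIso e.symm ≪≫ (a ≪≫ z).app _
  refine (G n A d).map_injective ?_
  rw [Functor.map_zero, ← cancel_epi b.inv, comp_zero]
  exact (adj.homEquiv _ _).injective ((h d hd).eq_of_tgt _ _)

/-- Pseudo-coherence is detected by the twists `0, …, n`. -/
theorem psc_of_twists : ∀ (r k : ℕ), k + r = n + 1 → ∀ (E : DCoh.D (CohB1.ProjSpace n A)), DCoh.IsQCohD E →
    (∀ j : ℕ, j < k → IsZero ((DCoh.Rpush (CohB1.ProjSpace.toSpec n A)).obj ((G n A j).obj E))) →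
    (∀ j : ℕ, k ≤ j → j ≤ n → ∀ m, DCoh.IsPseudoCoherentD m
      ((DCoh.Rpush (CohB1.ProjSpace.toSpec n A)).obj ((G n A j).obj E))) →
    ∀ m, DCoh.IsPseudoCoherentD m E := by
  intro r
  induction r with
  | zero =>
    intro k hk E hE h0 _ m
    refine PCTriangle.psc_of_gpsc (PCTriangle.psc_of_isLE (n := m - 1) (by omega) ((DerivedCategory.isLE_iff _ _).2 fun i _ => ?_))
    exact (homologyFunctor _ i).map_isZero (isZero_of_push_zero n A E hE fun d hd => h0 d (by omega))
  | succ r ih =>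
    intro k hk E hE h0 hp
    let f := CohB1.ProjSpace.toSpec n A
    haveI := isProper_projSpace_toSpec n A
    obtain ⟨adj⟩ := nonempty_pullPushAdj f
    let M := (DCoh.Rpush f).obj ((G n A k).obj E)
    have hMq : DCoh.IsQCohD M := DQCoh.isQCohD_Rpush f _ (isQCohD_Gd _ hE)
    have hMp : ∀ m, DCoh.IsPseudoCoherentD m M := hp k le_rfl (by omega)
    have hPp : ∀ m, DCoh.IsPseudoCoherentD m ((DCoh.Lpull f).obj M) := fun m =>
      PullPerf.isPseudoCoherentD_Lpull f m M (hMp m)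
    obtain ⟨C, v, w, hT⟩ := distinguished_cocone_triangle (adj.counit.app ((G n A k).obj E))
    have hCq : DCoh.IsQCohD C := isQCohD_obj₃ hT (DQCoh.isQCohD_Lpull f _ hMq) (isQCohD_Gd _ hE)
    -- the first cohomological condition
    have hC0 : IsZero ((DCoh.Rpush f).obj C) := by
      haveI := isIso_unit_qcoh n A adj M hMq
      haveI : IsIso ((DCoh.Rpush f).map (adj.counit.app ((G n A k).obj E))) := by
        have := adj.right_triangle_components ((G n A k).obj E)
        haveI : IsIso (adj.unit.app M ≫ (DCoh.Rpush f).map (adj.counit.app ((G n A k).obj E))) := by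
          erw [this]
          exact ⟨𝟙 _, Category.id_comp _, Category.id_comp _⟩
        exact IsIso.of_isIso_comp_left (adj.unit.app M) _
      obtain ⟨δ, hδ⟩ := TenLocal.triExact_Rpush f _ hT
      exact Triangle.isZero₃_of_isIso₁ _ hδ ‹_›
    -- the twists of `C`
    have hGC : ∀ (j : ℕ) (d : ℤ), d + k = j → ∃ T ∈ distTriang (DCoh.D (Spec (CommRingCat.of A))),
        Nonempty (T.obj₁ ≅ (DCoh.Rpush f).obj ((G n A d).obj ((DCoh.Lpull f).obj M))) ∧
        Nonempty (T.obj₂ ≅ (DCoh.Rpush f).obj ((G n A j).obj E)) ∧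
        Nonempty (T.obj₃ ≅ (DCoh.Rpush f).obj ((G n A d).obj C)) := fun j d hdj => by
      obtain ⟨δ, hδ⟩ := (triExact_G n A d).comp (TenLocal.triExact_Rpush f) _ hT
      obtain ⟨a⟩ := nonempty_G_add n A d k j hdj
      exact ⟨_, hδ, ⟨Iso.refl _⟩, ⟨(DCoh.Rpush f).mapIso (a.app E)⟩, ⟨Iso.refl _⟩⟩
    let E' := (G n A (-(k : ℤ))).obj C
    have hE' : ∀ m, DCoh.IsPseudoCoherentD m E' := by
      refine ih (k + 1) (by omega) E' (isQCohD_Gd _ hCq) (fun j hj => ?_) fun j hj hjn m => ?_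
      · obtain ⟨a⟩ := nonempty_G_add n A j (-(k : ℤ)) ((j : ℤ) - k) (by ring)
        refine IsZero.of_iso ?_ ((DCoh.Rpush f).mapIso (a.app C))
        rcases eq_or_lt_of_le (show j ≤ k by omega) with rfl | hjk
        · obtain ⟨z⟩ := nonempty_G_zero n A
          exact hC0.of_iso ((DCoh.Rpush f).mapIso (eqToIso (by rw [sub_self]) ≪≫ z.app C))
        · obtain ⟨T, hT', ⟨e₁⟩, ⟨e₂⟩, ⟨e₃⟩⟩ := hGC j ((j : ℤ) - k) (by ring)
          exact (Triangle.isZero₃_of_isZero₁₂ T hT'
            ((isZero_push_pull n A ((j : ℤ) - k) (by omega) (by omega) M hMq).of_iso e₁)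
            ((h0 j hjk).of_iso e₂)).of_iso e₃.symm
      · obtain ⟨a⟩ := nonempty_G_add n A j (-(k : ℤ)) ((j : ℤ) - k) (by ring)
        refine PCTriangle.psc_iso ((DCoh.Rpush f).mapIso (a.app C)).symm ?_
        obtain ⟨T, hT', ⟨e₁⟩, ⟨e₂⟩, ⟨e₃⟩⟩ := hGC j ((j : ℤ) - k) (by ring)
        exact PCTriangle.psc_iso e₃ (PCTriangle.psc_cone hT'
          (PCTriangle.psc_iso e₁.symm (psc_push n A _ hPp _)) (PCTriangle.psc_iso e₂.symm (hp j (by omega) hjn m)))
    intro m
    obtain ⟨δ, hδ⟩ := triExact_G n A (-(k : ℤ)) _ hT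
    obtain ⟨a⟩ := nonempty_G_add n A (-(k : ℤ)) k 0 (by ring)
    obtain ⟨z⟩ := nonempty_G_zero n A
    exact PCTriangle.psc_iso ((a ≪≫ z).app E) (PCTriangle.psc_ext hδ (psc_Gd _ (hPp m)) (hE' m))

theorem iff_twists [∀ d : ℤ, DCoh.HasLTensorMod (Twist.twistProjSpace n A d)] (K : DCoh.D (CohB1.ProjSpace n A))
    (hK : DCoh.IsQCohD K) :
    (∀ m : ℤ, DCoh.IsPseudoCoherentD m K) ↔
      ∀ d : ℕ, d ≤ n → ∀ m : ℤ, DCoh.IsPseudoCoherentD m
        ((DCoh.Rpush (CohB1.ProjSpace.toSpec n A)).obj ((DCoh.LTensorMod (Twist.twistProjSpace n A (d : ℤ))).obj K)) := by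
  constructor
  · intro h d _ m
    obtain ⟨e⟩ := nonempty_LTensorMod_Gd (hO n A d) K
    exact PCTriangle.psc_iso ((DCoh.Rpush _).mapIso e).symm (psc_push n A d h m)
  · intro h
    refine psc_of_twists n A (n + 1) 0 (by omega) K hK (fun j hj => absurd hj (by omega)) fun j _ hj m => ?_
    obtain ⟨e⟩ := nonempty_LTensorMod_Gd (hO n A j) K
    exact PCTriangle.psc_iso ((DCoh.Rpush _).mapIso e) (h j hj m)

end Groth.Agent.KoszPn17
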