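import Groth.Agent.KoszPn17.PnDecomp
import Groth.Agent.DCat.ExcDevissage17
import Groth.Agent.SerreDual.ExtLocFree
import Groth.Agent.Dual22Lib.HomFinite
import Groth.Agent.Dual22Lib.ScalarD
import Groth.Agent.Dual22Lib.PerfLift
import Groth.Agent.Dual22Lib.LocFreeExt
import Groth.Agent.FlatCx12.EmbPush
import Groth.Agent.DCat.ClosedPushD
import Groth.Agent.DQCoh.BettiRank
import Groth.Agent.DQCoh.PscNoeth
import Groth.Agent.KZeroLib.BddDevissage
import Groth.Agent.Coherent.FinitePres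
import Groth.Agent.S1011
import Groth.Prelude.Def_KLin
import Groth.Prelude.Def_SGA6

/-!
# Finite-dimensional maps from the twists detect bounded coherent objects on projective schemes
-/

set_option autoImplicit false
set_option backward.isDefEq.respectTransparency false
set_option backward.isDefEq.respectTransparency.types false
set_option linter.style.haveILetI false
set_option linter.unusedSectionVars false

universe u

open CategoryTheory CategoryTheory.Limits CategoryTheory.Pretriangulated AlgebraicGeometry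
open Groth.Agent Groth.Agent.Coherent Groth.Agent.AmpleLib Groth.Agent.DCat
open Groth.Agent.DCat.ExcDevissage17

namespace Groth.Agent.KoszPn17.PnExc17

attribute [local instance] HasDerivedCategory.standard
attribute [-instance] Int.instConditionallyCompleteLinearOrder

variable {k : Type u} [Field k] {X Y : Scheme.{u}} [X.Over (Spec (CommRingCat.of k))]
  [Y.Over (Spec (CommRingCat.of k))]

/-- Transport of finiteness along compatible linear bijections. -/
theorem finFrom_of_equiv {E K : DCoh.D X} {E' K' : DCoh.D Y}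
    (e : ∀ t : ℤ, Nonempty ((E⟦t⟧ ⟶ K) ≃ₗ[k] (E'⟦t⟧ ⟶ K'))) (h : FinFrom k E K) : FinFrom k E' K' :=
  ⟨fun t => by haveI := h.1 t; exact Module.Finite.equiv (e t).some,
    h.2.subset fun t ht => (e t).some.toEquiv.nontrivial_congr.2 ht⟩

theorem finFrom_of_iso_left {E E' K : DCoh.D X} (a : E ≅ E') (h : FinFrom k E K) : FinFrom k E' K :=
  finFrom_of_equiv (fun t => ⟨Linear.homCongr k ((shiftFunctor _ t).mapIso a) (Iso.refl _)⟩) h

/-- The adjunction `Lf^* ⊣ Rf_*` is linear. -/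
theorem nonempty_homEquiv_linear (f : X ⟶ Y) [f.IsOver (Spec (CommRingCat.of k))] [DCoh.HasLpull f]
    [DCoh.HasRpush f] (M : DCoh.D Y) (K : DCoh.D X) :
    Nonempty (((DCoh.Lpull f).obj M ⟶ K) ≃ₗ[k] (M ⟶ (DCoh.Rpush f).obj K)) := by
  obtain ⟨adj⟩ := nonempty_pullPushAdj f
  haveI : (DCoh.Rpush f).Additive := by
    obtain ⟨_, _⟩ := exists_commShift_Rpush f
    infer_instance
  refine ⟨{ toFun := adj.homEquiv M K
            map_add' := fun a b => by simp [Adjunction.homEquiv_unit]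
            map_smul' := fun c a => ?_
            invFun := (adj.homEquiv M K).symm
            left_inv := (adj.homEquiv M K).left_inv
            right_inv := (adj.homEquiv M K).right_inv }⟩
  rw [RingHom.id_apply, show c • a = a ≫ (c • 𝟙 K) by rw [Linear.comp_smul, Category.comp_id],
    Adjunction.homEquiv_naturality_right, Dual22Lib.ScalarD.Rpush_map_smul_id, Linear.comp_smul, Category.comp_id]

/-- Derived pullback commutes with shifts up to isomorphism. -/
theorem nonempty_Lpull_shift (f : X ⟶ Y) [DCoh.HasLpull f] (M : DCoh.D Y) (t : ℤ) :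
    Nonempty ((DCoh.Lpull f).obj (M⟦t⟧) ≅ ((DCoh.Lpull f).obj M)⟦t⟧) := by
  obtain ⟨_, _⟩ := PullPerf.exists_commShift_Lpull f
  exact ⟨((DCoh.Lpull f).commShiftIso t).app M⟩

/-- Finiteness from a perfect object into a bounded coherent one. -/
theorem finFrom_perfect [IsProper (X ↘ Spec (CommRingCat.of k))] {E L : DCoh.D X} (hE : DCoh.IsPerfect E)
    (hL : SGA6.cohbP X L) : FinFrom k E L := by
  haveI := LocallyOfFiniteType.isLocallyNoetherian (X ↘ Spec (CommRingCat.of k))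
  haveI : CompactSpace X := QuasiCompact.compactSpace_of_compactSpace (X ↘ Spec (CommRingCat.of k))
  haveI : IsNoetherian X := {}
  obtain ⟨hLc, a, b, ha, hb⟩ := hL
  have hLq : DCoh.IsQCohD L := fun i => (hLc i).1
  refine ⟨fun t => ?_, ?_⟩
  · obtain ⟨hc, a', b', -, hb'⟩ := KZeroLib.hd_of_perfect (PCTriangle.perfect_shift hE t)
    haveI := hb'
    haveI := ha
    exact Dual22Lib.HomFinite.finite_hom (E⟦t⟧) L b' a hc hLc
  · have h := (S1011.result X E hE).2 L a b hLq ha hb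
    refine (h.image fun n => -n).subset fun t ht => ⟨-t, ?_, neg_neg t⟩
    obtain ⟨φ, hφ⟩ := exists_ne_zero_of_nontrivial ht
    let c := (shiftFunctorCompIsoId (DCoh.D X) t (-t) (by omega)).app E
    refine ⟨c.inv ≫ φ⟦-t⟧', fun h0 => hφ ((shiftFunctor _ (-t)).map_injective ?_)⟩
    rw [Functor.map_zero, ← cancel_epi c.inv, h0, comp_zero]

/-- Tensoring is linear. -/
theorem linear_tensE (L : X.Modules) : (tensE L).Linear k := by
  refine ⟨fun {M N} g c => AmpleLib.hom_ext fun U a b => ?_⟩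
  refine (tensE_map_tmul (E := L) (c • g) U a b).trans ?_
  refine Eq.trans ?_ (KLin.smul_app_apply c ((tensE L).map g) U (tmul a b)).symm
  rw [KLin.smul_app_apply, tmul_smul_right]
  exact congrArg _ (tensE_map_tmul (E := L) g U a b).symm

/-- Twisting is a linear bijection on maps. -/
theorem nonempty_Gd_homEquiv {L N : X.Modules} (hL : PicF.IsInvertible L) (hN : PicF.IsInvertible N)
    (e : CohB1.tensorMod L N ≅ Coh.structureModule X) (A B : DCoh.D X) :
    Nonempty ((A ⟶ B) ≃ₗ[k] ((Gd hL).obj A ⟶ (Gd hL).obj B)) := by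
  haveI := pfl_tensE hL
  haveI := pfc_tensE hL
  haveI := linear_tensE (k := k) L
  haveI : (Gd hL).IsEquivalence := isEquivalence_Gd hL hN e
  haveI : (Gd hL).Additive := inferInstanceAs ((tensE L).mapDerivedCategory).Additive
  haveI : (Gd hL).Linear k := inferInstanceAs ((tensE L).mapDerivedCategory.Linear k)
  exact ⟨LinearEquiv.ofBijective ((Gd hL).mapLinearMap k)
    ⟨(Gd hL).map_injective, fun g => (Gd hL).map_surjective g⟩⟩

/-- The twist of a shifted module. -/
theorem nonempty_Gd_single {L : X.Modules} (hL : PicF.IsInvertible L) (M : X.Modules) {M' : X.Modules}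
    (e : CohB1.tensorMod L M ≅ M') (t : ℤ) :
    Nonempty ((Gd hL).obj ((DCoh.inD X M)⟦t⟧) ≅ (DCoh.inD X M')⟦t⟧) := by
  haveI := pfl_tensE hL
  haveI := pfc_tensE hL
  exact ⟨((tensE L).mapDerivedCategory.commShiftIso t).app _ ≪≫
    (shiftFunctor _ t).mapIso (((tensE L).mapDerivedCategorySingleFunctor 0).app M ≪≫
      (DerivedCategory.singleFunctor _ 0).mapIso e)⟩

theorem isCohD_inD [IsLocallyNoetherian X] {M : X.Modules} (hM : Coh.IsCoh M) :
    DCoh.IsCohD (DCoh.inD X M) := fun j => by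
  by_cases hj : j = 0
  · subst hj
    exact Coherent.isCoh_iso ((DerivedCategory.singleFunctorCompHomologyFunctorIso X.Modules 0).app M).symm hM
  · refine (DQCoh.coh_ops X).1 _ ?_
    rcases lt_or_gt_of_ne hj with hj | hj
    · exact DerivedCategory.isZero_of_isGE _ 0 j hj
    · exact DerivedCategory.isZero_of_isLE _ 0 j hj

section Proj

variable (n : ℕ) (k)
variable [(CohB1.ProjSpace n k).Over (Spec (CommRingCat.of k))]

/-- `O(-d)`. -/
noncomputable abbrev O' (d : Fin (n + 1)) : DCoh.D (CohB1.ProjSpace n k) :=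
  DCoh.inD _ (Twist.twistProjSpace n k (-((d : ℕ) : ℤ)))

theorem eq_zero_neg (A B : X.Modules) (t s : ℤ) (h : s < t) (φ : (DCoh.inD X A)⟦t⟧ ⟶ (DCoh.inD X B)⟦s⟧) : φ = 0 := by
  haveI : ((DCoh.inD X A)⟦t⟧).IsLE (-t) := DerivedCategory.TStructure.t.isLE_shift _ 0 t (-t) (by omega)
  haveI : ((DCoh.inD X B)⟦s⟧).IsGE (-s) := DerivedCategory.TStructure.t.isGE_shift _ 0 s (-s) (by omega)
  exact DerivedCategory.TStructure.t.zero φ (-t) (-s) (by omega)

/-- Maps from `O` to a shift of `O(c)` are cohomology classes. -/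
theorem nonempty_hom_HH (M : X.Modules) (q : ℕ) :
    Nonempty ((DCoh.inD X (Coh.structureModule X) ⟶ (DCoh.inD X M)⟦(q : ℤ)⟧) ≃ₗ[k] Coh.HH X M q) :=
  ⟨(Linear.homCongr k ((DerivedCategory.singleFunctor X.Modules 0).mapIso (DQCoh.topStructIso X)).symm (Iso.refl _)).trans
    ((Abelian.Ext.homLinearEquiv (R := k)).symm.trans (SerreDual.extHHLin k M q))⟩

theorem eq_zero_HH (c : ℤ) (m : ℤ)
    (h₀ : ¬ (m = 0 ∧ 0 ≤ c)) (hn : ¬ (m = n ∧ c ≤ -((n : ℤ) + 1)))
    (φ : DCoh.inD _ (Coh.structureModule (CohB1.ProjSpace n k)) ⟶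
      (DCoh.inD _ (Twist.twistProjSpace n k c))⟦m⟧) : φ = 0 := by
  rcases lt_or_ge m 0 with hm | hm
  · let e := (shiftFunctorZero (DCoh.D (CohB1.ProjSpace n k)) ℤ).app (DCoh.inD _ (Coh.structureModule (CohB1.ProjSpace n k)))
    rw [← cancel_epi e.hom, comp_zero]
    exact eq_zero_neg _ _ 0 m hm _
  · obtain ⟨q, rfl⟩ := Int.eq_ofNat_of_zero_le hm
    haveI : Subsingleton (Coh.HH (CohB1.ProjSpace n k) (Twist.twistProjSpace n k c) q) :=
      Coherent.subsingleton_HH_twist q (fun h => h₀ ⟨by omega, h.2⟩) (fun h => hn ⟨by omega, h.2⟩)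
    obtain ⟨e⟩ := nonempty_hom_HH (k := k) (Twist.twistProjSpace n k c) q
    exact e.injective (Subsingleton.elim _ _)

variable {n}

/-- Twist to move the source to `O`. -/
theorem nonempty_twist_hom (a b : Fin (n + 1)) (t s : ℤ) :
    Nonempty (((O' k n a)⟦t⟧ ⟶ (O' k n b)⟦s⟧) ≃ₗ[k]
      (DCoh.inD _ (Coh.structureModule (CohB1.ProjSpace n k)) ⟶
        (DCoh.inD _ (Twist.twistProjSpace n k (((a : ℕ) : ℤ) - (b : ℕ))))⟦s - t⟧)) := by
  obtain ⟨z⟩ : Nonempty (Twist.twistProjSpace n k 0 ≅ Coh.structureModule (CohB1.ProjSpace n k)) :=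
    TwistLib.nonempty_twist_zero_iso (𝒜 := CohB1.polyGrading n k)
  obtain ⟨e₀⟩ := TwistLib.nonempty_tensor_twist_iso (𝒜 := CohB1.polyGrading n k) (covers_deg_one n k)
    (a := ((a : ℕ) : ℤ)) (b := -((a : ℕ) : ℤ)) (c := 0) (by ring)
  obtain ⟨e₀'⟩ : Nonempty (CohB1.tensorMod (Twist.twistProjSpace n k ((a : ℕ) : ℤ))
      (Twist.twistProjSpace n k (-((a : ℕ) : ℤ))) ≅ Twist.twistProjSpace n k 0) := ⟨e₀⟩
  clear e₀
  rename' e₀' => e₀
  obtain ⟨e₁⟩ := TwistLib.nonempty_tensor_twist_iso (𝒜 := CohB1.polyGrading n k) (covers_deg_one n k)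
    (a := ((a : ℕ) : ℤ)) (b := -((b : ℕ) : ℤ)) (c := ((a : ℕ) : ℤ) - (b : ℕ)) (by ring)
  obtain ⟨g⟩ := nonempty_Gd_homEquiv (k := k) (hO n k (a : ℕ)) (hO n k (-((a : ℕ) : ℤ))) (e₀ ≪≫ z)
    ((O' k n a)⟦t⟧) ((O' k n b)⟦s⟧)
  obtain ⟨p⟩ := nonempty_Gd_single (hO n k (a : ℕ)) _ (e₀ ≪≫ z) t
  obtain ⟨q⟩ := nonempty_Gd_single (hO n k (a : ℕ)) _ e₁ s
  let σ := shiftFunctor (DCoh.D (CohB1.ProjSpace n k)) t
  let U := DCoh.inD _ (Coh.structureModule (CohB1.ProjSpace n k))
  let V := (DCoh.inD _ (Twist.twistProjSpace n k (((a : ℕ) : ℤ) - (b : ℕ))))⟦s - t⟧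
  let τ : (U ⟶ V) ≃ₗ[k] (σ.obj U ⟶ σ.obj V) :=
    LinearEquiv.ofBijective (σ.mapLinearMap k) ⟨σ.map_injective, fun x => σ.map_surjective x⟩
  exact ⟨g.trans ((Linear.homCongr k p (q ≪≫ (shiftFunctorAdd' _ (s - t) t s (by omega)).app _)).trans τ.symm)⟩

theorem exc_lt (a b : Fin (n + 1)) (h : a < b) (t s : ℤ) (φ : (O' k n a)⟦t⟧ ⟶ (O' k n b)⟦s⟧) : φ = 0 := by
  obtain ⟨e⟩ := nonempty_twist_hom k a b t s
  have h' : (a : ℕ) < (b : ℕ) := h
  have hb : (b : ℕ) ≤ n := Nat.lt_succ_iff.1 b.2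
  refine e.injective ((eq_zero_HH k n _ _ ?_ ?_ (e φ)).trans e.map_zero.symm) <;> omega

theorem exc_ne (a : Fin (n + 1)) (t s : ℤ) (h : t ≠ s) (φ : (O' k n a)⟦t⟧ ⟶ (O' k n a)⟦s⟧) : φ = 0 := by
  obtain ⟨e⟩ := nonempty_twist_hom k a a t s
  refine e.injective ((eq_zero_HH k n _ _ ?_ ?_ (e φ)).trans e.map_zero.symm) <;> omega

variable (hover : CohB1.ProjSpace n k ↘ Spec (CommRingCat.of k) = CohB1.ProjSpace.toSpec n k)
include hover

theorem end_structure (f : Coh.structureModule (CohB1.ProjSpace n k) ⟶ Coh.structureModule (CohB1.ProjSpace n k)) :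
    ∃ c : k, f = c • 𝟙 _ := by
  haveI := Coherent.isIso_appTop_toSpec (n := n) (R := k)
  have hb : Function.Bijective (Coh.toGlobal (CohB1.ProjSpace n k ↘ Spec (CommRingCat.of k)) : k → _) := by
    rw [hover]
    exact ((ConcreteCategory.isIso_iff_bijective (CohB1.ProjSpace.toSpec n k).appTop).1 inferInstance).comp
      ((ConcreteCategory.isIso_iff_bijective (Scheme.ΓSpecIso (CommRingCat.of k)).inv).1 inferInstance)
  obtain ⟨c, hc⟩ := hb.2 (f.app ⊤ (1 : Γ(CohB1.ProjSpace n k, ⊤)))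
  refine ⟨c, (SerreDual.homUnitEquiv k _).injective ?_⟩
  show f.app ⊤ (1 : Γ(CohB1.ProjSpace n k, ⊤)) = (c • 𝟙 (Coh.structureModule (CohB1.ProjSpace n k))).app ⊤ (1 : Γ(CohB1.ProjSpace n k, ⊤))
  rw [KLin.smul_app_apply, ← hc, Scheme.Modules.Hom.id_app]
  show _ = (CohB1.ProjSpace n k).presheaf.map (homOfLE le_top).op _ * 1
  rw [mul_one]
  simp

theorem exc_eq (a : Fin (n + 1)) (t : ℤ) (φ : (O' k n a)⟦t⟧ ⟶ (O' k n a)⟦t⟧) : ∃ c : k, φ = c • 𝟙 _ := by
  obtain ⟨z⟩ : Nonempty (Twist.twistProjSpace n k 0 ≅ Coh.structureModule (CohB1.ProjSpace n k)) :=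
    TwistLib.nonempty_twist_zero_iso (𝒜 := CohB1.polyGrading n k)
  obtain ⟨e₀⟩ := TwistLib.nonempty_tensor_twist_iso (𝒜 := CohB1.polyGrading n k) (covers_deg_one n k)
    (a := ((a : ℕ) : ℤ)) (b := -((a : ℕ) : ℤ)) (c := 0) (by ring)
  obtain ⟨e₀'⟩ : Nonempty (CohB1.tensorMod (Twist.twistProjSpace n k ((a : ℕ) : ℤ))
      (Twist.twistProjSpace n k (-((a : ℕ) : ℤ))) ≅ Twist.twistProjSpace n k 0) := ⟨e₀⟩
  clear e₀
  rename' e₀' => e₀
  let A := hO n k (a : ℕ)
  haveI := pfl_tensE A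
  haveI := pfc_tensE A
  haveI := linear_tensE (k := k) (Twist.twistProjSpace n k (a : ℕ))
  haveI : (Gd A).IsEquivalence := isEquivalence_Gd A (hO n k (-((a : ℕ) : ℤ))) (e₀ ≪≫ z)
  haveI : (Gd A).Additive := inferInstanceAs ((tensE (Twist.twistProjSpace n k (a : ℕ))).mapDerivedCategory).Additive
  haveI : (Gd A).Linear k := inferInstanceAs ((tensE _).mapDerivedCategory.Linear k)
  obtain ⟨p⟩ := nonempty_Gd_single A _ (e₀ ≪≫ z) t
  let S := DerivedCategory.singleFunctor (CohB1.ProjSpace n k).Modules 0 ⋙ shiftFunctor _ t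
  obtain ⟨f, hf⟩ := S.map_surjective (p.inv ≫ (Gd A).map φ ≫ p.hom)
  obtain ⟨c, rfl⟩ := end_structure k hover f
  refine ⟨c, (Gd A).map_injective ?_⟩
  rw [Functor.map_smul, CategoryTheory.Functor.map_id] at hf
  rw [Functor.map_smul, CategoryTheory.Functor.map_id, ← cancel_epi p.inv, ← cancel_mono p.hom]
  simp only [Category.assoc, Linear.comp_smul, Linear.smul_comp, Category.comp_id, Category.id_comp, Iso.inv_hom_id]
  refine hf.symm.trans ?_
  simp [S]

omit hover in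
theorem isPerfect_O' (a : Fin (n + 1)) (t : ℤ) : DCoh.IsPerfect ((O' k n a)⟦t⟧) :=
  PCTriangle.perfect_shift (Dual22Lib.PerfLift.isPerfect_single (Coherent.isFinLocFree_of_invertible (hO n k _))) t

/-- On projective space: finite-dimensional maps from the twists imply perfect. -/
theorem isPerfect_of_finFrom (L : DCoh.D (CohB1.ProjSpace n k)) (hL : DCoh.IsQCohD L)
    (h : ∀ d : Fin (n + 1), FinFrom k (O' k n d) L) : DCoh.IsPerfect L := by
  haveI : IsProper (CohB1.ProjSpace n k ↘ Spec (CommRingCat.of k)) := by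
    rw [hover]
    exact isProper_projSpace_toSpec n k
  haveI := LocallyOfFiniteType.isLocallyNoetherian (CohB1.ProjSpace n k ↘ Spec (CommRingCat.of k))
  haveI : CompactSpace (CohB1.ProjSpace n k) :=
    QuasiCompact.compactSpace_of_compactSpace (CohB1.ProjSpace n k ↘ Spec (CommRingCat.of k))
  haveI : IsNoetherian (CohB1.ProjSpace n k) := {}
  refine prop_of_finFrom (k := k) (O' k n) (exc_lt k) (exc_ne k) (exc_eq k hover)
    (fun a b s => finFrom_perfect (isPerfect_O' k a 0 |> fun h0 =>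
      PCTriangle.perfect_iso ((shiftFunctorZero _ ℤ).app _) h0) (KZeroLib.hd_of_perfect (isPerfect_O' k b s)))
    (fun M => DCoh.IsQCohD M) (fun M => DCoh.IsPerfect M) (fun T hT => DQCoh.isQCohD_obj₃ hT)
    (fun a t => Dual22Lib.PerfLift.isQCohD_perfect (isPerfect_O' k a t))
    (fun T hT h₁ h₃ => (PCTriangle.perfect_two_out_of_three hT).2.1 h₁ h₃) (isPerfect_O' k)
    (fun M hM hz => ?_) L hL h
  have hz0 : IsZero M := twists_generate M hM fun d hd => hz ⟨d, Nat.lt_succ_of_le hd⟩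
  have h0 := PCTriangle.perfect_cone (contractible_distinguished (O' k n 0))
    (PCTriangle.perfect_iso ((shiftFunctorZero _ ℤ).app _) (isPerfect_O' k 0 0))
    (PCTriangle.perfect_iso ((shiftFunctorZero _ ℤ).app _) (isPerfect_O' k 0 0))
  exact PCTriangle.perfect_iso ((isZero_zero _).iso hz0) h0

variable (i : X ⟶ CohB1.ProjSpace n k) [IsClosedImmersion i] [i.IsOver (Spec (CommRingCat.of k))]

/-- The criterion on a closed subscheme of projective space. -/
theorem cohb_of_finFrom (K : DCoh.D X) (hK : DCoh.IsQCohD K)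
    (h : ∀ d : Fin (n + 1), FinFrom k
      (DCoh.inD X ((Scheme.Modules.pullback i).obj (Twist.twistProjSpace n k (-((d : ℕ) : ℤ))))) K) :
    SGA6.cohbP X K := by
  haveI : IsProper (CohB1.ProjSpace n k ↘ Spec (CommRingCat.of k)) := by
    rw [hover]
    exact isProper_projSpace_toSpec n k
  haveI := LocallyOfFiniteType.isLocallyNoetherian (CohB1.ProjSpace n k ↘ Spec (CommRingCat.of k))
  haveI : CompactSpace (CohB1.ProjSpace n k) :=
    QuasiCompact.compactSpace_of_compactSpace (CohB1.ProjSpace n k ↘ Spec (CommRingCat.of k))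
  haveI : IsNoetherian (CohB1.ProjSpace n k) := {}
  haveI := LocallyOfFiniteType.isLocallyNoetherian i
  haveI : CompactSpace X := QuasiCompact.compactSpace_of_compactSpace i
  haveI : IsNoetherian X := {}
  haveI := DCat.hasLpull i
  haveI := DCat.hasRpush i
  let L := (DCoh.Rpush i).obj K
  have hL : DCoh.IsPerfect L := by
    refine isPerfect_of_finFrom k hover L (DQCoh.isQCohD_Rpush i _ hK) fun d => ?_
    obtain ⟨η⟩ := DQCoh.nonempty_Lpull_inD i (Coherent.isFinLocFree_of_invertible (hO n k (-((d : ℕ) : ℤ))))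
    refine finFrom_of_equiv (fun t => ?_) (h d)
    obtain ⟨σ⟩ := nonempty_Lpull_shift i (O' k n d) t
    obtain ⟨a⟩ := nonempty_homEquiv_linear (k := k) i ((O' k n d)⟦t⟧) K
    exact ⟨(Linear.homCongr k (σ ≪≫ (shiftFunctor _ t).mapIso η).symm (Iso.refl _)).trans a⟩
  haveI : PreservesFiniteColimits (Scheme.Modules.pushforward i) :=
    FlatCx12.EmbPush.preservesFiniteColimits_emb i i.isClosedEmbedding
  obtain ⟨P, hP, ⟨e⟩⟩ := PullPerf.exists_kflat_rep K
  obtain ⟨r⟩ := ClosedPushD.nonempty_rpushQIso i P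
  let u : L ≅ (FlatCx12.EmbPush.pd i).obj K :=
    (DCoh.Rpush i).mapIso e.symm ≪≫ r ≪≫ ((Scheme.Modules.pushforward i).mapDerivedCategoryFactors.app P).symm ≪≫
      (FlatCx12.EmbPush.pd i).mapIso e
  obtain ⟨-, a, b, ha, hb⟩ := KZeroLib.hd_of_perfect (PCTriangle.perfect_iso u hL)
  have hzero : ∀ j, IsZero (DCoh.HD ((FlatCx12.EmbPush.pd i).obj K) j) → IsZero (DCoh.HD K j) := fun j hj =>
    FlatCx12.EmbPush.isZero_of_push i i.isClosedEmbedding _ (hj.of_iso (SuppOpen.hdMapIso _ K j).symm)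
  have haK : K.IsGE a := (DerivedCategory.isGE_iff _ _).2 fun j hj => hzero j ((DerivedCategory.isGE_iff _ _).1 ha j hj)
  haveI hbK : K.IsLE b := (DerivedCategory.isLE_iff _ _).2 fun j hj => hzero j ((DerivedCategory.isLE_iff _ _).1 hb j hj)
  have hpd : ∀ m, DCoh.IsPseudoCoherentD m ((FlatCx12.EmbPush.pd i).obj K) := fun m =>
    DQCoh.psc_of_perfect (PCTriangle.perfect_iso u hL) m
  have hOc : Coh.IsCoh ((Scheme.Modules.pushforward i).obj (Coh.structureModule X)) :=
    Coherent.isCoh_push_finite i (Coherent.isCoh_structureModule X)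
  have hpsc : ∀ m, DCoh.IsPseudoCoherentD m K := fun m =>
    (FlatCx12.EmbPush.psc_pd_iff i i.isClosedEmbedding (fun m' => DQCoh.psc_of_isCoh (DCoh.inD _ _)
      (haveI := hOc.1; isQCohD_inD _) 0 m' (fun j _ => isCohD_inD hOc j)) m K).1 (hpd m)
  exact ⟨fun j => ((DQCoh.psc_iff_noetherian K hK j).1 (hpsc j)).1 j le_rfl, a, b, haK, hbK⟩

end Proj

end Groth.Agent.KoszPn17.PnExc17
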