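import Groth.Agent.KoszPn17.PnExc17
import Groth.Agent.Quot8.PnFamily
import Groth.Prelude.Def_RelProj

/-!
# The criterion on H-projective schemes and on projective space over a field
-/

set_option autoImplicit false
set_option backward.isDefEq.respectTransparency false
set_option backward.isDefEq.respectTransparency.types false
set_option linter.style.haveILetI false
set_option linter.unusedSectionVars false

universe u

open CategoryTheory CategoryTheory.Limits CategoryTheory.Pretriangulated AlgebraicGeometry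
open Groth.Agent Groth.Agent.Coherent Groth.Agent.AmpleLib Groth.Agent.DCat
open Groth.Agent.DCat.ExcDevissage17

namespace Groth.Agent.KoszPn17.PnExc17

attribute [local instance] HasDerivedCategory.standard
attribute [-instance] Int.instConditionallyCompleteLinearOrder

variable {k : Type u} [Field k] {X : Scheme.{u}} [X.Over (Spec (CommRingCat.of k))]

/-- The two models of projective space over a field. -/
theorem exists_projIso (k : Type u) [Field k] (n : ℕ) :
    ∃ c : CohB1.ProjSpace n k ≅ CohB1.ProjSpaceOver n (Spec (CommRingCat.of k)),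
      c.hom ≫ CohB1.ProjSpaceOver.toBase n (Spec (CommRingCat.of k)) = CohB1.ProjSpace.toSpec n k ∧
      ∀ t : ℤ, Nonempty ((Scheme.Modules.pullback c.hom).obj (Twist.twistOver n (Spec (CommRingCat.of k)) t) ≅
        Twist.twistProjSpace n k t) := by
  obtain ⟨a, ha, hat⟩ := (Quot8.isPn_projSpaceOver n (Spec (CommRingCat.of k))).exists_projSquare (R := k) (𝟙 _)
  haveI : IsIso a := ha.isIso_fst_of_isIso
  exact ⟨asIso a, ha.w.trans (Category.comp_id _), hat⟩

/-- Shifting the source or the target. -/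
theorem finFrom_iff (E K : DCoh.D X) : FinFrom k E K ↔
    (∀ i : ℤ, Module.Finite k (E ⟶ (shiftFunctor (DCoh.D X) i).obj K)) ∧
      Set.Finite {i : ℤ | Nontrivial (E ⟶ (shiftFunctor (DCoh.D X) i).obj K)} := by
  have e : ∀ i : ℤ, (E⟦-i⟧ ⟶ K) ≃ₗ[k] (E ⟶ K⟦i⟧) := fun i =>
    (LinearEquiv.ofBijective ((shiftFunctor (DCoh.D X) i).mapLinearMap k (X := E⟦-i⟧) (Y := K))
      ⟨(shiftFunctor _ i).map_injective, fun g => (shiftFunctor _ i).map_surjective g⟩).trans
      (Linear.homCongr k ((shiftFunctorCompIsoId (DCoh.D X) (-i) i (by omega)).app E) (Iso.refl _))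
  constructor
  · intro h
    refine ⟨fun i => by haveI := h.1 (-i); exact Module.Finite.equiv (e i),
      (h.2.image fun t => -t).subset fun i hi => ⟨-i, (e i).toEquiv.nontrivial_congr.2 hi, neg_neg i⟩⟩
  · intro h
    refine ⟨fun t => ?_, (h.2.image fun t => -t).subset fun t ht => ⟨-t, ?_, neg_neg t⟩⟩
    · have := h.1 (-t)
      rw [← neg_neg t]
      exact Module.Finite.equiv (e (-t)).symm
    · have ht' : Nontrivial (E⟦- -t⟧ ⟶ K) := by rwa [neg_neg]
      exact (e (-t)).toEquiv.nontrivial_congr.1 ht'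

/-- The criterion for H-projective schemes. -/
theorem cohb_iff_projective (hproj : RelProj.IsHProjective (X ↘ Spec (CommRingCat.of k)))
    (K : DCoh.D X) (hK : DCoh.IsQCohD K) :
    SGA6.cohbP X K ↔ ∀ E : DCoh.D X, DCoh.IsPerfect E →
        (∀ i : ℤ, Module.Finite k (E ⟶ (shiftFunctor (DCoh.D X) i).obj K)) ∧
        Set.Finite {i : ℤ | Nontrivial (E ⟶ (shiftFunctor (DCoh.D X) i).obj K)} := by
  obtain ⟨n, j, hj, hjf⟩ := hproj
  obtain ⟨c, hc, -⟩ := exists_projIso k n
  haveI := hj
  letI : (CohB1.ProjSpace n k).Over (Spec (CommRingCat.of k)) := ⟨CohB1.ProjSpace.toSpec n k⟩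
  let i : X ⟶ CohB1.ProjSpace n k := j ≫ c.inv
  haveI : IsClosedImmersion i := inferInstanceAs (IsClosedImmersion (j ≫ c.inv))
  have hi : i ≫ CohB1.ProjSpace.toSpec n k = X ↘ Spec (CommRingCat.of k) := by
    rw [← hc, Category.assoc, Iso.inv_hom_id_assoc, hjf]
  haveI : i.IsOver (Spec (CommRingCat.of k)) := ⟨hi⟩
  haveI := isProper_projSpace_toSpec n k
  haveI : IsProper (X ↘ Spec (CommRingCat.of k)) := by rw [← hi]; infer_instance
  refine ⟨fun h E hE => (finFrom_iff E K).1 (finFrom_perfect hE h), fun h => ?_⟩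
  refine cohb_of_finFrom k rfl i K hK fun d => (finFrom_iff _ K).2 (h _ ?_)
  exact Dual22Lib.PerfLift.isPerfect_single (PullPerf.isFinLocFree_pullback i
    (Coherent.isFinLocFree_of_invertible (hO n k _)))

/-- The criterion with twists on projective space. -/
theorem cohb_iff_twists (n : ℕ) [∀ d : ℤ, DCoh.HasLTensorMod (Twist.twistOver n (Spec (CommRingCat.of k)) d)]
    (K : DCoh.D (CohB1.ProjSpaceOver n (Spec (CommRingCat.of k)))) (hK : DCoh.IsQCohD K) :
    SGA6.cohbP (CohB1.ProjSpaceOver n (Spec (CommRingCat.of k))) K ↔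
      ∀ d : ℕ, d ≤ n →
        (∀ i : ℤ, Module.Finite k (DCoh.inD (CohB1.ProjSpaceOver n (Spec (CommRingCat.of k))) (Coh.structureModule (CohB1.ProjSpaceOver n (Spec (CommRingCat.of k)))) ⟶
            (shiftFunctor (DCoh.D (CohB1.ProjSpaceOver n (Spec (CommRingCat.of k)))) i).obj ((DCoh.LTensorMod (Twist.twistOver n (Spec (CommRingCat.of k)) (d : ℤ))).obj K))) ∧
        Set.Finite {i : ℤ | Nontrivial (DCoh.inD (CohB1.ProjSpaceOver n (Spec (CommRingCat.of k))) (Coh.structureModule (CohB1.ProjSpaceOver n (Spec (CommRingCat.of k)))) ⟶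
            (shiftFunctor (DCoh.D (CohB1.ProjSpaceOver n (Spec (CommRingCat.of k)))) i).obj ((DCoh.LTensorMod (Twist.twistOver n (Spec (CommRingCat.of k)) (d : ℤ))).obj K))} := by
  let P := CohB1.ProjSpaceOver n (Spec (CommRingCat.of k))
  obtain ⟨c, hc, hct⟩ := exists_projIso k n
  letI : (CohB1.ProjSpace n k).Over (Spec (CommRingCat.of k)) := ⟨CohB1.ProjSpace.toSpec n k⟩
  have hi : c.inv ≫ CohB1.ProjSpace.toSpec n k = P ↘ Spec (CommRingCat.of k) := by
    rw [← hc, Iso.inv_hom_id_assoc]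
    rfl
  haveI : c.inv.IsOver (Spec (CommRingCat.of k)) := ⟨hi⟩
  haveI := isProper_projSpace_toSpec n k
  haveI : IsProper (P ↘ Spec (CommRingCat.of k)) := by rw [← hi]; infer_instance
  have hpull : ∀ t : ℤ, Nonempty ((Scheme.Modules.pullback c.inv).obj (Twist.twistProjSpace n k t) ≅
      Twist.twistOver n (Spec (CommRingCat.of k)) t) := fun t =>
    ⟨(Scheme.Modules.pullback c.inv).mapIso (hct t).some.symm ≪≫ (Scheme.Modules.pullbackComp c.inv c.hom).app _ ≪≫
      (Scheme.Modules.pullbackCongr c.inv_hom_id).app _ ≪≫ (Scheme.Modules.pullbackId _).app _⟩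
  have hinv : ∀ t : ℤ, PicF.IsInvertible (Twist.twistOver n (Spec (CommRingCat.of k)) t) := fun t =>
    AmpleLib.glocus_isInvertible_of_iso (hpull t).some (PicLoc.isInvertible_pullback c.inv (hO n k t))
  have hten : ∀ d : ℕ, Nonempty (CohB1.tensorMod (Twist.twistOver n (Spec (CommRingCat.of k)) (d : ℤ))
      (Twist.twistOver n (Spec (CommRingCat.of k)) (-(d : ℤ))) ≅ Coh.structureModule P) := fun d => by
    obtain ⟨z⟩ : Nonempty (Twist.twistProjSpace n k 0 ≅ Coh.structureModule (CohB1.ProjSpace n k)) :=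
      TwistLib.nonempty_twist_zero_iso (𝒜 := CohB1.polyGrading n k)
    obtain ⟨e₀⟩ := TwistLib.nonempty_tensor_twist_iso (𝒜 := CohB1.polyGrading n k) (covers_deg_one n k)
      (a := (d : ℤ)) (b := -(d : ℤ)) (c := 0) (by ring)
    exact ⟨AmpleLib.tensorIso (hpull _).some.symm (hpull _).some.symm ≪≫ (DCat.PullTensor.pullTensorIso c.inv _ _).symm ≪≫
      (Scheme.Modules.pullback c.inv).mapIso (e₀ ≪≫ z) ≪≫ PicLoc.pullbackStructureIso c.inv⟩
  have key : ∀ d : ℕ, FinFrom k (DCoh.inD P (Twist.twistOver n (Spec (CommRingCat.of k)) (-(d : ℤ)))) K ↔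
      FinFrom k (DCoh.inD P (Coh.structureModule P))
        ((DCoh.LTensorMod (Twist.twistOver n (Spec (CommRingCat.of k)) (d : ℤ))).obj K) := fun d => by
    have e : ∀ t : ℤ, Nonempty (((DCoh.inD P (Twist.twistOver n (Spec (CommRingCat.of k)) (-(d : ℤ))))⟦t⟧ ⟶ K) ≃ₗ[k]
        ((DCoh.inD P (Coh.structureModule P))⟦t⟧ ⟶
          (DCoh.LTensorMod (Twist.twistOver n (Spec (CommRingCat.of k)) (d : ℤ))).obj K)) := fun t => by
      obtain ⟨g⟩ := nonempty_Gd_homEquiv (k := k) (hinv (d : ℤ)) (hinv (-(d : ℤ))) (hten d).some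
        ((DCoh.inD P (Twist.twistOver n (Spec (CommRingCat.of k)) (-(d : ℤ))))⟦t⟧) K
      obtain ⟨p⟩ := nonempty_Gd_single (hinv (d : ℤ)) _ (hten d).some t
      obtain ⟨l⟩ := nonempty_LTensorMod_Gd (hinv (d : ℤ)) K
      exact ⟨g.trans (Linear.homCongr k p l.symm)⟩
    exact ⟨finFrom_of_equiv e, finFrom_of_equiv fun t => ⟨(e t).some.symm⟩⟩
  constructor
  · intro h d _
    exact (finFrom_iff _ _).1 ((key d).1 (finFrom_perfect
      (Dual22Lib.PerfLift.isPerfect_single (Coherent.isFinLocFree_of_invertible (hinv _))) h))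
  · intro h
    refine cohb_of_finFrom k rfl c.inv K hK fun d => ?_
    exact finFrom_of_iso_left ((DerivedCategory.singleFunctor _ 0).mapIso (hpull _).some).symm
      ((key d).2 ((finFrom_iff _ _).2 (h d (Nat.lt_succ_iff.1 d.2))))

end Groth.Agent.KoszPn17.PnExc17
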