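import Groth.Agent.KoszPn17.TwistD
import Groth.Agent.KoszPn17.PnAcyclic
import Groth.Agent.Dual22Lib.TenLocal
import Groth.Agent.Dual22Lib.WeakExact
import Groth.Agent.DQCoh.Local
import Groth.Agent.DQCoh.Coproduct
import Groth.Agent.DQCoh.BettiRank
import Groth.Agent.Props12.FinLocFree
import Groth.Agent.AmpleLib.GenLocus

/-!
# The unit of `Lπ^* ⊣ Rπ_*` on projective space, and orthogonality of the negative twists
-/

set_option autoImplicit false
set_option backward.isDefEq.respectTransparency false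
set_option backward.isDefEq.respectTransparency.types false
set_option linter.style.haveILetI false

universe u

open CategoryTheory CategoryTheory.Limits CategoryTheory.Pretriangulated DerivedCategory AlgebraicGeometry
open Groth.Agent Groth.Agent.Coherent Groth.Agent.DCat Groth.Agent.Dual22Lib.WeakExact Groth.Agent.Dual22Lib
open Groth.Agent.DQCoh Groth.Agent.SiteDer16 Groth.Agent.AmpleLib Groth.Agent.PicLib

namespace Groth.Agent.KoszPn17

attribute [local instance] HasDerivedCategory.standard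
attribute [-instance] Int.instConditionallyCompleteLinearOrder

/-- A natural transformation between functors preserving triangles and sums is invertible on quasi-coherent
objects over an affine scheme if it is on the shifts of the structure sheaf. -/
theorem isIso_of_gen {A : Type u} [CommRing A] {D : Type (u + 1)} [Category.{u + 1} D] [Preadditive D]
    [HasZeroObject D] [HasShift D ℤ] [∀ n : ℤ, (shiftFunctor D n).Additive] [Pretriangulated D]
    (F G : DCoh.D (Spec (CommRingCat.of A)) ⥤ D) (hF : TriExact F) (hG : TriExact G)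
    (hFs : ∀ {κ : Type u} (Z : κ → DCoh.D (Spec (CommRingCat.of A))), (∀ k, DCoh.IsQCohD (Z k)) →
      PreservesColimit (Discrete.functor Z) F)
    (hGs : ∀ {κ : Type u} (Z : κ → DCoh.D (Spec (CommRingCat.of A))), (∀ k, DCoh.IsQCohD (Z k)) →
      PreservesColimit (Discrete.functor Z) G)
    (τ : F ⟶ G) (h : ∀ m : ℤ, IsIso (τ.app ((DCoh.inD _ (Coh.structureModule (Spec (CommRingCat.of A))))⟦m⟧)))
    (K : DCoh.D (Spec (CommRingCat.of A))) (hK : DCoh.IsQCohD K) : IsIso (τ.app K) := by
  refine IsoShifts.app (τ := τ) (qcohD_induction (CommRingCat.of A) (fun L => DCoh.IsQCohD L ∧ IsoShifts τ L)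
    (fun a h => ⟨isQCohD_of_iso a h.1, h.2.of_iso a⟩)
    (fun T hT h₁ h₂ => ⟨isQCohD_obj₃ hT h₁.1 h₂.1, IsoShifts.cone hF hG hT h₁.2 h₂.2⟩)
    (fun κ Z c hc h => ⟨?_, fun n => ?_⟩) (fun n => ?_) K hK).2
  · haveI : HasCoproduct Z := ⟨⟨⟨c, hc⟩⟩⟩
    exact isQCohD_of_iso ((coproductIsCoproduct _).coconePointUniqueUpToIso hc) (isQCohD_sigma _ fun k => (h k).1)
  · let sh := shiftFunctor (DCoh.D (Spec (CommRingCat.of A))) n
    let c' : Cofan fun k => (Z k)⟦n⟧ := Cofan.mk (c.pt⟦n⟧) fun k => (c.inj k)⟦n⟧'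
    have hc' : IsColimit c' := (Cofan.isColimitMapCoconeEquiv _ _ _).1 (isColimitOfPreserves sh hc)
    haveI := hFs (fun k => (Z k)⟦n⟧) fun k => isQCohD_shift (h k).1 n
    haveI := hGs (fun k => (Z k)⟦n⟧) fun k => isQCohD_shift (h k).1 n
    exact isIso_app_of_isColimit τ c' (isColimitOfPreserves F hc') (isColimitOfPreserves G hc') fun k => (h k).2 n
  · let S := Spec (CommRingCat.of A)
    have a : DCoh.inD S (Coh.structureModule S) ≅ (sec S).pt.obj ⊤ :=
      (singleFunctor _ 0).mapIso (topStructIso S).symm ≪≫ (singleFunctorIsoCompQ _ 0).app _ ≪≫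
        (((SingleFunctors.evaluation _ _ 0).mapIso (DerivedCategory.singleFunctorsPostcompQIso S.Modules)).app
          ((freeModOn S).obj ⊤)).symm
    refine ⟨isQCohD_shift (isQCohD_of_iso a (fun k => ?_)) n, (IsoShifts.shift (fun m => ?_) n).of_iso (Iso.refl _)⟩
    · by_cases hk : k = 0
      · subst hk
        exact Coherent.isQCoh_of_iso ((DerivedCategory.singleFunctorCompHomologyFunctorIso S.Modules 0).app _).symm
          (h := Coherent.isQCoh_structureModule)
      · refine Coherent.isQCoh_of_isZero ?_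
        rcases lt_or_gt_of_ne hk with hk | hk
        · exact DerivedCategory.isZero_of_isGE _ 0 k hk
        · exact DerivedCategory.isZero_of_isLE _ 0 k hk
    · exact (NatTrans.isIso_app_iff_of_iso τ ((shiftFunctor _ m).mapIso a)).1 (h m)

/-- Endomorphisms of the structure sheaf with a one-sided inverse are invertible. -/
theorem end_unit_comm {X : Scheme.{u}} (f g : Coh.structureModule X ⟶ Coh.structureModule X) : f ≫ g = g ≫ f := by
  rw [← unitDesc_unitVal (f ≫ g), ← unitDesc_unitVal (g ≫ f)]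
  refine congrArg (unitDesc _) ?_
  show g.app ⊤ (unitVal f ⊤) = f.app ⊤ (unitVal g ⊤)
  refine (app_unit g (show Γ(X, ⊤) from unitVal f ⊤)).trans (Eq.trans ?_ (app_unit f (show Γ(X, ⊤) from unitVal g ⊤)).symm)
  exact mul_comm (show Γ(X, ⊤) from unitVal f ⊤) (show Γ(X, ⊤) from unitVal g ⊤)

variable (n : ℕ) (A : Type u) [CommRing A]

theorem isIso_unitToPushforward :
    IsIso (SheafOfModules.unitToPushforwardObjUnit (CohB1.ProjSpace.toSpec n A).toRingCatSheafHom :
      Coh.structureModule (Spec (CommRingCat.of A)) ⟶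
        (Scheme.Modules.pushforward (CohB1.ProjSpace.toSpec n A)).obj (Coh.structureModule (CohB1.ProjSpace n A))) := by
  haveI := isProper_projSpace_toSpec n A
  haveI : Coh.IsQCoh ((Scheme.Modules.pushforward (CohB1.ProjSpace.toSpec n A)).obj
      (Coh.structureModule (CohB1.ProjSpace n A))) :=
    haveI := Coherent.isQCoh_structureModule (X := CohB1.ProjSpace n A)
    Coherent.isQCoh_push _ _
  haveI := Coherent.isQCoh_structureModule (X := Spec (CommRingCat.of A))
  refine Props12.isIso_of_bijective_top (M := Coh.structureModule (Spec (CommRingCat.of A)))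
    (N := (Scheme.Modules.pushforward (CohB1.ProjSpace.toSpec n A)).obj (Coh.structureModule (CohB1.ProjSpace n A))) _ ?_
  haveI := isIso_appTop_toSpec (n := n) (R := A)
  exact ConcreteCategory.bijective_of_isIso (CohB1.ProjSpace.toSpec n A).appTop

variable [DCoh.HasLpull (CohB1.ProjSpace.toSpec n A)] [DCoh.HasRpush (CohB1.ProjSpace.toSpec n A)]

omit [DCoh.HasRpush (CohB1.ProjSpace.toSpec n A)] in
theorem exists_lift_pull :
    ∃ (θ : (DCoh.Lpull (CohB1.ProjSpace.toSpec n A)).obj (DCoh.inD _ (Coh.structureModule (Spec (CommRingCat.of A)))) ≅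
      (DCoh.inD _ (Coh.structureModule (CohB1.ProjSpace n A)))),
      ∀ w' : (DCoh.Lpull (CohB1.ProjSpace.toSpec n A)).obj (DCoh.inD _ (Coh.structureModule (Spec (CommRingCat.of A)))) ⟶
          DCoh.inD _ (Coh.structureModule (CohB1.ProjSpace n A)),
        ∃ v : DCoh.inD _ (Coh.structureModule (Spec (CommRingCat.of A))) ⟶ DCoh.inD _ (Coh.structureModule (Spec (CommRingCat.of A))),
          (DCoh.Lpull (CohB1.ProjSpace.toSpec n A)).map v ≫ θ.hom = w' := by
  let f := CohB1.ProjSpace.toSpec n A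
  let S := Spec (CommRingCat.of A)
  let O := Coh.structureModule S
  let sS := HomologicalComplex.single S.Modules (ComplexShape.up ℤ) 0
  let sX := HomologicalComplex.single (CohB1.ProjSpace n A).Modules (ComplexShape.up ℤ) 0
  let pb := Scheme.Modules.pullback f
  have hN : IsKFlatFor (shT S) (sS.obj O) :=
    PullPerf.isKFlatFor_of_strictlyPerfect (strictlyPerfect_single (Coherent.CohBC.isFinLocFree_structureModule S))
  let cS := singleFunctorIsoCompQ S.Modules 0
  let cX := singleFunctorIsoCompQ (CohB1.ProjSpace n A).Modules 0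
  let sm := HomologicalComplex.singleMapHomologicalComplex pb (ComplexShape.up ℤ) 0
  let θ₀ := PicLoc.pullbackStructureIso f
  let θ : (DCoh.Lpull f).obj (DCoh.inD S O) ≅ DCoh.inD _ (Coh.structureModule _) :=
    (DCoh.Lpull f).mapIso (cS.app O) ≪≫ PullPerf.lpullIso f hN ≪≫ DerivedCategory.Q.mapIso (sm.app O) ≪≫
      (cX.app _).symm ≪≫ (singleFunctor _ 0).mapIso θ₀
  refine ⟨θ, fun w' => ?_⟩
  obtain ⟨g, hg⟩ := (singleFunctor (CohB1.ProjSpace n A).Modules 0).map_surjective (θ.inv ≫ w')
  let adj := Scheme.Modules.pullbackPushforwardAdjunction f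
  let ψ : O ⟶ (Scheme.Modules.pushforward f).obj (Coh.structureModule _) :=
    SheafOfModules.unitToPushforwardObjUnit f.toRingCatSheafHom
  haveI : IsIso ψ := isIso_unitToPushforward n A
  let v₀ : O ⟶ O := adj.homEquiv _ _ (θ₀.hom ≫ g) ≫ inv ψ
  have hψ : θ₀.hom = (adj.homEquiv _ _).symm ψ := rfl
  have hv₀ : pb.map v₀ ≫ θ₀.hom = θ₀.hom ≫ g := by
    rw [hψ, ← adj.homEquiv_naturality_left_symm, Category.assoc, IsIso.inv_hom_id, Category.comp_id,
      Equiv.symm_apply_apply]
    rfl
  refine ⟨(singleFunctor S.Modules 0).map v₀, ?_⟩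
  have hl : (DCoh.Lpull f).map (DerivedCategory.Q.map (sS.map v₀)) ≫ (PullPerf.lpullIso f hN).hom =
      (PullPerf.lpullIso f hN).hom ≫ DerivedCategory.Q.map ((pb.mapHomologicalComplex (ComplexShape.up ℤ)).map (sS.map v₀)) := by
    simp only [PullPerf.lpullIso, Iso.trans_hom, Functor.mapIso_hom, Iso.symm_hom, asIso_hom, Category.assoc]
    have n₁ := (DerivedCategory.quotientCompQhIso S.Modules).inv.naturality (sS.map v₀)
    have n₂ := ((DCoh.pullKh f).totalLeftDerivedCounit DerivedCategory.Qh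
      (HomotopyCategory.quasiIso S.Modules (ComplexShape.up ℤ))).naturality
        ((HomotopyCategory.quotient S.Modules (ComplexShape.up ℤ)).map (sS.map v₀))
    have n₃ := (DerivedCategory.quotientCompQhIso (CohB1.ProjSpace n A).Modules).hom.naturality
      ((pb.mapHomologicalComplex (ComplexShape.up ℤ)).map (sS.map v₀))
    simp only [Iso.app_inv, Iso.app_hom, Functor.comp_map] at n₁ n₂ n₃ ⊢
    rw [← Functor.map_comp_assoc, n₁, Functor.map_comp_assoc]
    refine congrArg (_ ≫ ·) ?_
    erw [reassoc_of% n₂]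
    exact congrArg (_ ≫ ·) n₃
  have e₁ : (singleFunctor _ 0).map v₀ ≫ cS.hom.app O = cS.hom.app O ≫ DerivedCategory.Q.map (sS.map v₀) :=
    cS.hom.naturality v₀
  have e₂ : DerivedCategory.Q.map ((pb.mapHomologicalComplex (ComplexShape.up ℤ)).map (sS.map v₀)) ≫
      DerivedCategory.Q.map (sm.hom.app O) = DerivedCategory.Q.map (sm.hom.app O) ≫ DerivedCategory.Q.map (sX.map (pb.map v₀)) := by
    rw [← Functor.map_comp, ← Functor.map_comp]
    exact congrArg _ (sm.hom.naturality v₀)
  have e₃ : DerivedCategory.Q.map (sX.map (pb.map v₀)) ≫ cX.inv.app (pb.obj O) =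
      cX.inv.app (pb.obj O) ≫ (singleFunctor _ 0).map (pb.map v₀) := cX.inv.naturality (pb.map v₀)
  have hw : w' = θ.hom ≫ (singleFunctor _ 0).map g := by rw [hg, Iso.hom_inv_id_assoc]
  rw [hw]
  simp only [θ, Iso.trans_hom, Functor.mapIso_hom, Iso.app_hom, Iso.symm_hom, Iso.app_inv, Category.assoc]
  rw [← Functor.map_comp_assoc, e₁, Functor.map_comp_assoc]
  refine congrArg (_ ≫ ·) ?_
  erw [reassoc_of% hl, reassoc_of% e₂, reassoc_of% e₃]
  rw [← Functor.map_comp, ← Functor.map_comp, hv₀]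

/-- The unit is invertible on objects with quasi-coherent cohomology. -/
theorem isIso_unit_qcoh (adj : DCoh.Lpull (CohB1.ProjSpace.toSpec n A) ⊣ DCoh.Rpush (CohB1.ProjSpace.toSpec n A))
    (M : DCoh.D (Spec (CommRingCat.of A))) (hM : DCoh.IsQCohD M) : IsIso (adj.unit.app M) := by
  let f := CohB1.ProjSpace.toSpec n A
  let S := Spec (CommRingCat.of A)
  haveI := isProper_projSpace_toSpec n A
  obtain ⟨_, _⟩ := PullPerf.exists_commShift_Lpull f
  refine isIso_of_gen (𝟭 _) (DCoh.Lpull f ⋙ DCoh.Rpush f) (triExact_of_isTriangulated _)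
    ((TenLocal.triExact_Lpull f).comp (TenLocal.triExact_Rpush f)) (fun Z _ => inferInstance) (fun {κ} Z hZ => ?_)
    adj.unit (fun m => ?_) M hM
  · haveI := TenLocal.preservesCoproducts_Lpull f κ
    haveI := TenLocal.preservesColimit_Rpush f ((DCoh.Lpull f).obj ∘ Z) fun k => DQCoh.isQCohD_Lpull f _ (hZ k)
    haveI : PreservesColimit (Discrete.functor Z ⋙ DCoh.Lpull f) (DCoh.Rpush f) :=
      preservesColimit_of_iso_diagram _ (Discrete.compNatIsoDiscrete Z (DCoh.Lpull f)).symm
    infer_instance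
  · obtain ⟨_, _⟩ := exists_commShift_Rpush f
    let O₁ := DCoh.inD S (Coh.structureModule S)
    obtain ⟨θ, hθ⟩ := exists_lift_pull n A
    let u := adj.homEquiv _ _ θ.hom
    have hsurj : ∀ x : O₁ ⟶ (DCoh.Rpush f).obj (DCoh.inD _ (Coh.structureModule (CohB1.ProjSpace n A))),
        ∃ v, v ≫ u = x := fun x => by
      obtain ⟨v, hv⟩ := hθ ((adj.homEquiv _ _).symm x)
      exact ⟨v, by rw [← Adjunction.homEquiv_naturality_left, hv, Equiv.apply_symm_apply]⟩
    obtain ⟨e⟩ := nonempty_Rpush_twist n A 0 (by omega)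
    obtain ⟨z⟩ := TwistLib.nonempty_twist_zero_iso (𝒜 := CohB1.polyGrading n A)
    haveI := isIso_unitToPushforward n A
    let e' : (DCoh.Rpush f).obj (DCoh.inD _ (Coh.structureModule (CohB1.ProjSpace n A))) ≅ O₁ :=
      (DCoh.Rpush f).mapIso ((singleFunctor _ 0).mapIso z.symm) ≪≫ e ≪≫
        (singleFunctor _ 0).mapIso ((Scheme.Modules.pushforward f).mapIso z ≪≫
          (asIso (SheafOfModules.unitToPushforwardObjUnit f.toRingCatSheafHom :
            Coh.structureModule S ⟶ (Scheme.Modules.pushforward f).obj (Coh.structureModule _))).symm)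
    obtain ⟨v, hv⟩ := hsurj e'.inv
    obtain ⟨v₀, rfl⟩ := (singleFunctor S.Modules 0).map_surjective v
    obtain ⟨c₀, hc₀⟩ := (singleFunctor S.Modules 0).map_surjective (u ≫ e'.hom)
    have h1 : v₀ ≫ c₀ = 𝟙 _ := (singleFunctor S.Modules 0).map_injective (by
      rw [Functor.map_comp, hc₀, reassoc_of% hv, e'.inv_hom_id, CategoryTheory.Functor.map_id])
    have h2 : c₀ ≫ v₀ = 𝟙 _ := (end_unit_comm c₀ v₀).trans h1
    haveI : IsIso c₀ := ⟨v₀, h2, h1⟩
    haveI : IsIso (u ≫ e'.hom) := hc₀ ▸ inferInstance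
    haveI hu : IsIso u := IsIso.of_isIso_comp_right u e'.hom
    haveI hO : IsIso (adj.unit.app O₁) := by
      have : u = adj.unit.app O₁ ≫ (DCoh.Rpush f).map θ.hom := Adjunction.homEquiv_unit _ _ _ _
      rw [this] at hu
      exact IsIso.of_isIso_comp_right _ ((DCoh.Rpush f).map θ.hom)
    obtain ⟨_, _⟩ := PullPerf.exists_commShift_Lpull f
    letI := adj.rightAdjointCommShift ℤ
    haveI : adj.CommShift ℤ := adj.commShift_of_leftAdjoint ℤ
    rw [NatTrans.app_shift adj.unit m O₁]
    infer_instance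

end Groth.Agent.KoszPn17
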