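import Groth.Agent.DQCoh.AffineKProj17
import Groth.Agent.DQCoh.PscNoeth
import Groth.Agent.DQCoh.Local
import Groth.Agent.DCat.TorSheaf
import Groth.Agent.DCat.TensorAssoc
import Groth.Agent.DCat.PullTensor
import Groth.Agent.Coherent.CohBC.Perf
import Groth.Agent.Coherent.TensorFinLoc
import Groth.Agent.Coherent.ProjSpaceBC
import Groth.Agent.SerreDual.TwistEquiv
import Groth.Prelude.Def_DDual2

/-!
# Tensoring with an invertible module on derived categories
-/

set_option autoImplicit false
set_option backward.isDefEq.respectTransparency false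
set_option backward.isDefEq.respectTransparency.types false
set_option linter.style.haveILetI false

universe u

open CategoryTheory CategoryTheory.Limits DerivedCategory AlgebraicGeometry
open Groth.Agent Groth.Agent.Coherent Groth.Agent.AmpleLib Groth.Agent.DCat Groth.Agent.PicLib

namespace Groth.Agent.KoszPn17

attribute [local instance] HasDerivedCategory.standard
attribute [-instance] Int.instConditionallyCompleteLinearOrder

variable {X : Scheme.{u}}

theorem pfl_tensE {L : X.Modules} (hL : PicF.IsInvertible L) : PreservesFiniteLimits (tensE L) :=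
  preservesFiniteLimits_tensE (Coherent.isFinLocFree_of_invertible hL)

theorem pfc_tensE {L : X.Modules} (hL : PicF.IsInvertible L) : PreservesFiniteColimits (tensE L) :=
  preservesFiniteColimits_tensE (Coherent.isFinLocFree_of_invertible hL)

/-- `O` is a unit for the tensor product, naturally. -/
noncomputable def unitTensENatIso' : tensE (Coh.structureModule X) ≅ 𝟭 X.Modules :=
  NatIso.ofComponents (fun M => unitTensorIso M) fun {M N} g => AmpleLib.hom_ext fun U a b => by
    show (unitBilin N).desc.app U ((tE (Coh.structureModule X) g).app U (tmul a b)) =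
      g.app U ((unitBilin M).desc.app U (tmul a b))
    rw [show (tE (Coh.structureModule X) g).app U (tmul a b) = tmul a (g.app U b) from tensE_map_tmul _ g U a b,
      Bilin.desc_tmul, Bilin.desc_tmul]
    exact (Scheme.Modules.Hom.app_smul g (show Γ(X, U) from a) b).symm

/-- Tensoring with a tensor product. -/
noncomputable def tensECompIso' (E F : X.Modules) : tensE (CohB1.tensorMod E F) ≅ tensE F ⋙ tensE E :=
  NatIso.ofComponents (fun A => DCat.TensorAssoc.assocIso E F A) fun {A A'} g =>
    DCat.TensorAssoc.assocIso_nat₃ (M := E) (N := F) g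

/-- `tensE` is functorial in the module. -/
noncomputable def tensECongr {E F : X.Modules} (e : E ≅ F) : tensE E ≅ tensE F :=
  (DCoh.tensorBi (X := X)).mapIso e

/-- The derived category version of tensoring with an invertible module. -/
noncomputable def Gd {L : X.Modules} (hL : PicF.IsInvertible L) : DCoh.D X ⥤ DCoh.D X :=
  haveI := pfl_tensE hL
  haveI := pfc_tensE hL
  (tensE L).mapDerivedCategory

theorem nonempty_Gd_comp {A B C : X.Modules} (hA : PicF.IsInvertible A) (hB : PicF.IsInvertible B)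
    (hC : PicF.IsInvertible C) (e : CohB1.tensorMod A B ≅ C) : Nonempty (Gd hB ⋙ Gd hA ≅ Gd hC) := by
  haveI := pfl_tensE hA
  haveI := pfc_tensE hA
  haveI := pfl_tensE hB
  haveI := pfc_tensE hB
  haveI := pfl_tensE hC
  haveI := pfc_tensE hC
  exact DQCoh.AffineKProj17.nonempty_mdcCompIso _ _ _ ((tensECompIso' A B).symm ≪≫ tensECongr e)

theorem nonempty_Gd_unit {A : X.Modules} (hA : PicF.IsInvertible A) (e : A ≅ Coh.structureModule X) :
    Nonempty (Gd hA ≅ 𝟭 (DCoh.D X)) := by
  haveI := pfl_tensE hA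
  haveI := pfc_tensE hA
  obtain ⟨a⟩ := DQCoh.AffineKProj17.nonempty_mdcCompIso (𝟭 X.Modules) (𝟭 X.Modules) (tensE A)
    (Functor.leftUnitor _ ≪≫ (tensECongr e ≪≫ unitTensENatIso').symm)
  obtain ⟨b⟩ := DQCoh.AffineKProj17.nonempty_mdcIdIso (A := X.Modules)
  exact ⟨a.symm ≪≫ Functor.isoWhiskerRight b _ ≪≫ Functor.leftUnitor _ ≪≫ b⟩

theorem isEquivalence_Gd {A B : X.Modules} (hA : PicF.IsInvertible A) (hB : PicF.IsInvertible B)
    (e : CohB1.tensorMod A B ≅ Coh.structureModule X) : (Gd hA).IsEquivalence := by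
  obtain ⟨a⟩ := nonempty_Gd_comp hA hB AmpleLib.isInvertible_structureModule e
  obtain ⟨b⟩ := nonempty_Gd_comp hB hA AmpleLib.isInvertible_structureModule (AmpleLib.tensorComm B A ≪≫ e)
  obtain ⟨c⟩ := nonempty_Gd_unit (X := X) AmpleLib.isInvertible_structureModule (Iso.refl _)
  exact (CategoryTheory.Equivalence.mk (Gd hA) (Gd hB) (b ≪≫ c).symm (a ≪≫ c)).isEquivalence_functor

/-- `- ⊗^L L` is `Gd`. -/
theorem nonempty_LTensorMod_Gd {L : X.Modules} (hL : PicF.IsInvertible L) [DCoh.HasLTensorMod L] (K : DCoh.D X) :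
    Nonempty ((DCoh.LTensorMod L).obj K ≅ (Gd hL).obj K) := by
  haveI := pfl_tensE hL
  haveI := pfc_tensE hL
  obtain ⟨P, hP, ⟨e⟩⟩ := PullPerf.exists_kflat_rep K
  let α := Coherent.CohBC.tensorRightBiIso L
  exact ⟨(DCoh.LTensorMod L).mapIso e.symm ≪≫ ltensorModIso L hP ≪≫
    DerivedCategory.Q.mapIso (show ((DCoh.tensorRightMod L).mapHomologicalComplex (ComplexShape.up ℤ)).obj P ≅
        ((tensE L).mapHomologicalComplex (ComplexShape.up ℤ)).obj P from
      HomologicalComplex.Hom.isoOfComponents (fun n => α.app (P.X n))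
      (fun a b _ => (α.hom.naturality (P.d a b)).symm)) ≪≫
    ((tensE L).mapDerivedCategoryFactors.app P).symm ≪≫ (tensE L).mapDerivedCategory.mapIso e⟩

theorem isQCohD_Gd {L : X.Modules} (hL : PicF.IsInvertible L) {K : DCoh.D X} (hK : DCoh.IsQCohD K) :
    DCoh.IsQCohD ((Gd hL).obj K) := fun i => by
  haveI := pfl_tensE hL
  haveI := pfc_tensE hL
  haveI : Coh.IsQCoh L := AmpleLib.isQCoh_of_isInvertible hL
  haveI := hK i
  exact Coherent.isQCoh_of_iso (SuppOpen.hdMapIso (tensE L) K i).symm (h := Coherent.isQCoh_tensorMod L (DCoh.HD K i))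

/-- Twisting preserves pseudo-coherence. -/
theorem psc_Gd {L : X.Modules} (hL : PicF.IsInvertible L) {m : ℤ} {K : DCoh.D X}
    (hK : DCoh.IsPseudoCoherentD m K) : DCoh.IsPseudoCoherentD m ((Gd hL).obj K) := by
  haveI := pfl_tensE hL
  haveI := pfc_tensE hL
  refine DQCoh.psc_of_local _ fun x => ?_
  obtain ⟨U, hxU, ⟨t⟩⟩ := hL x
  refine ⟨U, U.ι, inferInstance, by simpa using hxU, PCTriangle.psc_iso ?_ (DQCoh.psc_rd U.ι hK)⟩
  let P := Scheme.Modules.pullback U.ι
  let R := Scheme.Modules.restrictFunctor U.ι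
  let a : tensE L ⋙ P ≅ P ⋙ tensE (P.obj L) :=
    NatIso.ofComponents (fun M => DCat.PullTensor.pullTensorIso U.ι L M) fun {M N} ψ =>
      DCat.PullTensor.pullTensorHom_nat₂ U.ι L ψ
  let r := Scheme.Modules.restrictFunctorIsoPullback U.ι
  let e : tensE L ⋙ R ≅ R :=
    Functor.isoWhiskerLeft _ r ≪≫ a ≪≫
      Functor.isoWhiskerLeft P (tensECongr ((r.app L).symm ≪≫ t) ≪≫ unitTensENatIso') ≪≫
      Functor.rightUnitor _ ≪≫ r.symm
  haveI := PullPerf.preservesFiniteLimits_restrict U.ι
  exact ((DQCoh.AffineKProj17.nonempty_mdcCompIso (tensE L) R R e).some.app K).symm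

end Groth.Agent.KoszPn17
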