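import Groth.Agent.KoszPn17.TwistGen
import Groth.Agent.SerreDual.TwistEquiv
import Groth.Agent.DerCompLib.Locality
import Groth.Agent.DCat.TorSheaf
import Groth.Agent.DCat.OpenDerived
import Groth.Agent.DCat.PullPush
import Groth.Agent.DCat.Amplitude
import Groth.Agent.Coherent.CohBC.Perf
import Groth.Agent.Coherent.TensorFinLoc
import Groth.Agent.AmpleLib.GenLocus
import Groth.Prelude.Def_DDual2

/-!
# Twists by the powers of an ample module detect nonzero objects
-/

set_option autoImplicit false
set_option backward.isDefEq.respectTransparency false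
set_option backward.isDefEq.respectTransparency.types false
set_option linter.style.haveILetI false

universe u

open CategoryTheory CategoryTheory.Limits DerivedCategory AlgebraicGeometry Opposite
open Groth.Agent Groth.Agent.Coherent Groth.Agent.AmpleLib Groth.Agent.DCat Groth.Agent.PicLib

namespace Groth.Agent.KoszPn17

attribute [local instance] HasDerivedCategory.standard
attribute [-instance] Int.instConditionallyCompleteLinearOrder

variable {X : Scheme.{u}}

/-- The twist functor is the tensor functor. -/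
noncomputable def twistTensIso' (N : X.Modules) : SerreDual.twistF N ≅ tensE N :=
  NatIso.ofComponents (fun M => tensorComm M N) fun {M M'} g => AmpleLib.hom_ext fun U a b => by
    show (tensorSwap M' N).app U ((tensorMap g (𝟙 N)).app U (tmul a b)) =
      (tE N g).app U ((tensorSwap M N).app U (tmul a b))
    rw [tensorMap_tmul]
    refine (Bilin.desc_tmul _ U _ _).trans ?_
    refine Eq.trans ?_ (congrArg ((tE N g).app U) (Bilin.desc_tmul _ U a b)).symm
    exact (tensE_map_tmul (E := N) g U b a).symm

/-- Twisting by an invertible module is an equivalence. -/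
theorem exists_equiv {M N : X.Modules} (hM : PicF.IsInvertible M) (hN : PicF.IsInvertible N)
    (e : CohB1.tensorMod N M ≅ Coh.structureModule X) :
    ∃ E : X.Modules ≌ X.Modules, E.functor = DCoh.tensorRightMod M := by
  let α := Coherent.CohBC.tensorRightBiIso M ≪≫ (twistTensIso' M).symm
  let β := (twistTensIso' N).symm
  obtain ⟨c₁⟩ := SerreDual.exists_cancelIso hM hN (tensorComm M N ≪≫ e)
  obtain ⟨c₂⟩ := SerreDual.exists_cancelIso hN hM e
  exact ⟨CategoryTheory.Equivalence.mk (DCoh.tensorRightMod M) (tensE N)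
    (c₁.symm ≪≫ (Functor.isoWhiskerRight α.symm _ ≪≫ Functor.isoWhiskerLeft _ (twistTensIso' N)))
    ((Functor.isoWhiskerRight β _ ≪≫ Functor.isoWhiskerLeft _ α) ≪≫ c₂), rfl⟩

theorem isKInjective_equiv (E : X.Modules ≌ X.Modules) [E.functor.Additive] (J : CochainComplex X.Modules ℤ)
    [J.IsKInjective] :
    CochainComplex.IsKInjective ((E.functor.mapHomologicalComplex (ComplexShape.up ℤ)).obj J) := by
  haveI : E.inverse.Additive := inferInstance
  haveI : E.symm.functor.Additive := inferInstanceAs E.inverse.Additive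
  haveI : E.symm.inverse.Additive := inferInstanceAs E.functor.Additive
  haveI : PreservesFiniteLimits E.symm.functor := inferInstanceAs (PreservesFiniteLimits E.inverse)
  haveI : PreservesFiniteColimits E.symm.functor := inferInstanceAs (PreservesFiniteColimits E.inverse)
  exact DerCompLib.isKInjective_map_of_adj E.symm.toAdjunction J

/-- If `RΓ(K ⊗^L M) = 0` and `N ⊗ M ≅ O`, then every map from a shift of `N` to `K` vanishes. -/
theorem orth_of_isZero {M N : X.Modules} (hM : PicF.IsInvertible M) (hN : PicF.IsInvertible N)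
    (e : CohB1.tensorMod N M ≅ Coh.structureModule X) [DCoh.HasRΓ X] [DCoh.HasLTensorMod M] (K : DCoh.D X)
    (h : ∀ p : ℤ, IsZero ((DerivedCategory.homologyFunctor AddCommGrpCat.{u} p).obj
      ((DCoh.RΓ X).obj ((DCoh.LTensorMod M).obj K)))) :
    Orth K N := by
  obtain ⟨E, hE⟩ := exists_equiv hM hN e
  haveI : (DCoh.tensorRightMod M).IsEquivalence := hE ▸ E.isEquivalence_functor
  haveI : E.functor.Additive := hE ▸ inferInstance
  let T := DCoh.tensorRightMod M
  let A := DerivedCategory.Q.objPreimage K
  obtain ⟨J, s, hJ, hs⟩ := modules_enoughKInj X A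
  haveI := hJ
  haveI := hs
  haveI : IsIso (DerivedCategory.Q.map s) :=
    Localization.inverts DerivedCategory.Q (HomologicalComplex.quasiIso X.Modules (ComplexShape.up ℤ)) s
      ((HomologicalComplex.mem_quasiIso_iff _).2 ‹_›)
  let eJ : DerivedCategory.Q.obj J ≅ K := (asIso (DerivedCategory.Q.map s)).symm ≪≫ DerivedCategory.Q.objObjPreimageIso K
  haveI hTJ : CochainComplex.IsKInjective ((T.mapHomologicalComplex (ComplexShape.up ℤ)).obj J) := by
    have := isKInjective_equiv E J
    simpa [T, ← hE] using this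
  obtain ⟨P, c, hP, -, hc, -⟩ := exists_kflat_sheaf J
  haveI := hc
  haveI : T.PreservesHomology := inferInstance
  let Tc := (T.mapHomologicalComplex (ComplexShape.up ℤ)).map c
  haveI : QuasiIso Tc := inferInstance
  haveI : IsIso (DerivedCategory.Q.map c) :=
    Localization.inverts DerivedCategory.Q (HomologicalComplex.quasiIso X.Modules (ComplexShape.up ℤ)) c
      ((HomologicalComplex.mem_quasiIso_iff _).2 ‹_›)
  haveI : IsIso (DerivedCategory.Q.map Tc) :=
    Localization.inverts DerivedCategory.Q (HomologicalComplex.quasiIso X.Modules (ComplexShape.up ℤ)) Tc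
      ((HomologicalComplex.mem_quasiIso_iff _).2 ‹_›)
  let eT : (DCoh.LTensorMod M).obj K ≅ DerivedCategory.Q.obj ((T.mapHomologicalComplex (ComplexShape.up ℤ)).obj J) :=
    (DCoh.LTensorMod M).mapIso (eJ.symm ≪≫ (asIso (DerivedCategory.Q.map c)).symm) ≪≫ ltensorModIso M hP ≪≫
      asIso (DerivedCategory.Q.map Tc)
  let G := ((DCoh.gammaAb X).mapHomologicalComplex (ComplexShape.up ℤ)).obj ((T.mapHomologicalComplex (ComplexShape.up ℤ)).obj J)
  let eG : (DCoh.RΓ X).obj ((DCoh.LTensorMod M).obj K) ≅ DerivedCategory.Q.obj G :=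
    (DCoh.RΓ X).mapIso eT ≪≫
      OpenDerived.rfQIso (modules_enoughKInj X) (DCoh.gammaKh X) ((T.mapHomologicalComplex (ComplexShape.up ℤ)).obj J) ≪≫
      (DerivedCategory.quotientCompQhIso AddCommGrpCat.{u}).app G
  have hex : ∀ p : ℤ, G.ExactAt p := fun p => by
    rw [HomologicalComplex.exactAt_iff_isZero_homology]
    exact (h p).of_iso (((DerivedCategory.homologyFunctorFactors AddCommGrpCat.{u} p).app G).symm ≪≫
      (DerivedCategory.homologyFunctor AddCommGrpCat.{u} p).mapIso eG.symm)
  intro m φ
  let a := ((singleFunctors X.Modules).shiftIso m (-m) 0 (by omega)).app N ≪≫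
    (singleFunctorIsoCompQ X.Modules (-m)).app N
  suffices hz : a.inv ≫ φ ≫ eJ.inv = 0 by
    have h0 := congrArg (fun q => a.hom ≫ q ≫ eJ.hom) hz
    simpa using h0
  refine (DCat.Amplitude.from_single_iff J N (-m)).2 (fun f hf => ?_) _
  let g₀ : Coh.structureModule X ⟶ T.obj (J.X (-m)) := e.inv ≫ T.map f
  have hG := (HomologicalComplex.exactAt_iff' _ (-m - 1) (-m) (-m + 1) (by simp) (by simp)).1 (hex (-m))
  rw [ShortComplex.ab_exact_iff] at hG
  obtain ⟨t, ht⟩ := hG (unitVal g₀ ⊤) (by
    show unitVal (g₀ ≫ T.map (J.d (-m) (-m + 1))) ⊤ = 0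
    simp only [g₀, Category.assoc, ← T.map_comp, hf, Functor.map_zero, comp_zero]
    rfl)
  let g : Coh.structureModule X ⟶ T.obj (J.X (-m - 1)) := unitDesc _ t
  have hg : g ≫ T.map (J.d (-m - 1) (-m)) = g₀ := by
    rw [← unitDesc_unitVal g₀, ← unitDesc_unitVal (g ≫ T.map _)]
    refine congrArg (unitDesc _) ?_
    refine Eq.trans ?_ ht
    show (T.map _).app ⊤ (unitVal g ⊤) = _
    rw [unitVal_unitDesc, resM_self]
    rfl
  obtain ⟨k, hk⟩ := T.map_surjective (show T.obj N ⟶ T.obj (J.X (-m - 1)) from e.hom ≫ g)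
  refine ⟨k, T.map_injective ?_⟩
  rw [T.map_comp, hk]
  erw [Category.assoc, hg]
  exact (e.hom_inv_id_assoc _).symm

end Groth.Agent.KoszPn17
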